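import Mathlib

/-!
The derived group of a central extension of a perfect group.
-/

set_option autoImplicit false

namespace Cfsg.Agent.PSUMult.SixTwo

open scoped commutatorElement

variable {D G : Type*} [Group D] [Group G]

theorem commutator_map_of_perfect (f : D →* G) (hf : Function.Surjective f) (hG : commutator G = ⊤) :
    (commutator D).map f = ⊤ := by
  rw [commutator_def, Subgroup.map_commutator, Subgroup.map_top_of_surjective f hf, ← commutator_def, hG]

/-- The derived group of a central extension of a perfect group is perfect. -/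
theorem commutator_perfect (f : D →* G) (hf : Function.Surjective f) (hG : commutator G = ⊤)
    (hc : f.ker ≤ Subgroup.center D) : commutator ↥(commutator D) = ⊤ := by
  have hdec : ∀ p : D, ∃ d ∈ commutator D, ∃ z ∈ Subgroup.center D, p = d * z := by
    intro p
    obtain ⟨d, hd, hdp⟩ := (commutator_map_of_perfect f hf hG).ge (Subgroup.mem_top (f p))
    exact ⟨d, hd, d⁻¹ * p, hc (by rw [MonoidHom.mem_ker, map_mul, map_inv, hdp, inv_mul_cancel]),
      (mul_inv_cancel_left d p).symm⟩
  have hle : commutator D ≤ (commutator ↥(commutator D)).map (commutator D).subtype := by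
    conv_lhs => rw [commutator_def]
    rw [Subgroup.commutator_le]
    intro a _ b _
    obtain ⟨a', ha', z, hz, rfl⟩ := hdec a
    obtain ⟨b', hb', w, hw, rfl⟩ := hdec b
    have hz' := Subgroup.mem_center_iff.1 hz
    have hw' := Subgroup.mem_center_iff.1 hw
    refine ⟨⁅(⟨a', ha'⟩ : commutator D), ⟨b', hb'⟩⁆, Subgroup.commutator_mem_commutator (Subgroup.mem_top _)
      (Subgroup.mem_top _), ?_⟩
    show ⁅a', b'⁆ = ⁅a' * z, b' * w⁆
    simp only [commutatorElement_def]
    calc a' * b' * a'⁻¹ * b'⁻¹ = a' * b' * (w * a'⁻¹) * w⁻¹ * b'⁻¹ := by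
          rw [← hw' a'⁻¹]; group
      _ = a' * (b' * w) * a'⁻¹ * (w⁻¹ * b'⁻¹) := by group
      _ = a' * ((b' * w) * z) * z⁻¹ * a'⁻¹ * (w⁻¹ * b'⁻¹) := by group
      _ = a' * (z * (b' * w)) * z⁻¹ * a'⁻¹ * (w⁻¹ * b'⁻¹) := by rw [hz' (b' * w)]
      _ = _ := by group
  refine eq_top_iff.2 fun x _ => ?_
  obtain ⟨y, hy, hyx⟩ := hle x.2
  rwa [← (Subtype.ext hyx : y = x)]

end Cfsg.Agent.PSUMult.SixTwo
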