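import Cfsg.Agent.PSUMult.SixTwo.Data
import Cfsg.Agent.Classical.HermGroup

/-!
Vectors of the four-dimensional unitary space over the field with four elements as codes below 256, and the
linear system over the forty frames: its solutions are generated by two of the variables.
-/

set_option autoImplicit false
set_option maxRecDepth 100000

namespace Cfsg.Agent.PSUMult.SixTwo

open Cfsg.Agent.Classical Cfsg.Agent.Classical.Herm

/-- A two-bit digit. -/
noncomputable def dig (c k : ℕ) : ℕ := Nat.land (Nat.shiftRight c (2 * k)) 3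

/-- Multiplication of digits. -/
noncomputable def mulD (x y : ℕ) : ℕ :=
  cond (Nat.beq x 0 || Nat.beq y 0) 0 (Nat.mod (Nat.add (x - 1) (y - 1)) 3 + 1)

/-- The Frobenius map on digits. -/
noncomputable def sqD (x : ℕ) : ℕ := cond (Nat.beq x 2) 3 (cond (Nat.beq x 3) 2 x)

/-- The Hermitian form on codes. -/
noncomputable def hC (u v : ℕ) : ℕ :=
  Nat.xor (Nat.xor (mulD (sqD (dig u 0)) (dig v 0)) (mulD (sqD (dig u 1)) (dig v 1)))
    (Nat.xor (mulD (sqD (dig u 2)) (dig v 2)) (mulD (sqD (dig u 3)) (dig v 3)))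

/-- A scalar multiple of a code. -/
noncomputable def smulC (s c : ℕ) : ℕ :=
  mulD s (dig c 0) + 4 * mulD s (dig c 1) + 16 * mulD s (dig c 2) + 64 * mulD s (dig c 3)

/-- The vector of a point of a frame. -/
noncomputable def frVec (b i : ℕ) : ℕ :=
  let t := frames.getD b (0, 0, 0, 0)
  ptCodes.getD (if i = 0 then t.1 else if i = 1 then t.2.1 else if i = 2 then t.2.2.1 else t.2.2.2) 0

theorem frames_on : ∀ b < 40, ∀ i < 4, ∀ j < 4, frVec b i < 256 ∧
    hC (frVec b i) (frVec b j) = if i = j then 1 else 0 := by decide +kernel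

theorem units_ok : ∀ c < 256, hC c c = 1 →
    ∃ p < 40, ∃ s < 3, c = smulC (s + 1) (ptCodes.getD p 0) := by decide +kernel

theorem pts_lt : ∀ p < 40, ptCodes.getD p 0 < 256 := by decide +kernel

theorem pairs_ok : ∀ p < 40, ∀ r < 40, hC (ptCodes.getD p 0) (ptCodes.getD r 0) = 0 →
    ∃ b < 40, ∃ i < 4, ∃ j < 4, i ≠ j ∧ frVec b i = ptCodes.getD p 0 ∧ frVec b j = ptCodes.getD r 0 := by
  decide +kernel

/-- The variables met by a row. -/
noncomputable def rowMask (t : ℕ × ℕ × ℕ × ℕ × ℕ × ℕ) : ℕ :=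
  cond (Nat.beq t.2.2.2.2.2 0)
    (Nat.xor (Nat.shiftLeft t.2.2.2.2.1 (8 * t.1)) (Nat.shiftLeft t.2.2.2.2.1 (8 * t.2.2.1)))
    (Nat.shiftLeft t.2.2.2.2.1 (8 * t.1))

/-- The validity of a row. -/
def RowOK (t : ℕ × ℕ × ℕ × ℕ × ℕ × ℕ) : Prop :=
  (t.2.2.2.2.2 = 1 ∧ t.1 = 0 ∧ t.2.2.2.2.1 < 256) ∨
    (t.2.2.2.2.2 = 0 ∧ t.1 < 40 ∧ t.2.1 < 4 ∧ t.2.2.1 < 40 ∧ t.2.2.2.1 < 4 ∧ t.2.2.2.2.1 < 256 ∧
      frVec t.1 t.2.1 = frVec t.2.2.1 t.2.2.2.1 ∧ hC (frVec t.1 t.2.1) t.2.2.2.2.1 = 0)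

noncomputable instance (t : ℕ × ℕ × ℕ × ℕ × ℕ × ℕ) : Decidable (RowOK t) := by unfold RowOK; infer_instance

theorem rows_ok : ∀ t ∈ relRows, RowOK t := by decide +kernel

/-- A combination of the masks of the rows. -/
noncomputable def comb : List ℕ → ℕ → ℕ :=
  fun l => List.rec (motive := fun _ => ℕ → ℕ) (fun _ => 0)
    (fun m _ r c => cond (Nat.beq (Nat.land c 1) 1) (Nat.xor m (r (Nat.shiftRight c 1)))
      (r (Nat.shiftRight c 1))) l

/-- The masks of the rows. -/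
noncomputable def masks : List ℕ := relRows.map rowMask

/-- The part at the seeds. -/
noncomputable def seedMask (e : ℕ) : ℕ :=
  Nat.xor (cond (Nat.beq (Nat.land e 1) 1) (Nat.shiftLeft 1 14) 0)
    (cond (Nat.beq (Nat.shiftRight e 1) 1) (Nat.shiftLeft 1 15) 0)

theorem combos_ok : ∀ v < 320, comb masks (combos.getD v (0, 0)).1 =
    Nat.xor (Nat.shiftLeft 1 v) (seedMask (combos.getD v (0, 0)).2) := by decide +kernel

end Cfsg.Agent.PSUMult.SixTwo
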