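import Mathlib

/-!
Maps from `Z3 × Z2 × Z2` onto a central subgroup with three generators of the corresponding orders.
-/

set_option autoImplicit false

namespace Cfsg.Agent.PSUMult.SixTwo

/-- The group of order twelve. -/
abbrev A12 : Type := Multiplicative (ZMod 3 × ZMod 2 × ZMod 2)

theorem card_A12 : Nat.card A12 = 12 := by
  show Nat.card (ZMod 3 × ZMod 2 × ZMod 2) = 12
  simp

theorem exists_surjective_A12 {Γ : Type*} [Group Γ] (N : Subgroup Γ) (hN : N ≤ Subgroup.center Γ) {a b c : Γ}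
    (ha : a ∈ N) (hb : b ∈ N) (hc : c ∈ N) (h3 : a ^ 3 = 1) (hb2 : b * b = 1) (hc2 : c * c = 1)
    (hgen : N ≤ Subgroup.closure ({a, b, c} : Set Γ)) : ∃ π : A12 →* N, Function.Surjective π := by
  let _ : CommGroup N :=
    { (inferInstance : Group N) with
      mul_comm := fun x y => Subtype.ext (Subgroup.mem_center_iff.1 (hN y.2) x.1) }
  let f : ∀ (n : ℕ) (x : N), x ^ n = 1 → ZMod n →+ Additive N := fun n x hx =>
    ZMod.lift n ⟨zmultiplesHom (Additive N) (Additive.ofMul x), by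
      show (n : ℤ) • Additive.ofMul x = 0
      rw [natCast_zsmul, ← ofMul_pow, hx, ofMul_one]⟩
  have hf : ∀ (n : ℕ) (x : N) (hx : x ^ n = 1), f n x hx 1 = Additive.ofMul x := fun n x hx => by
    have h1 : ((1 : ℤ) : ZMod n) = (1 : ZMod n) := Int.cast_one
    rw [← h1]
    exact (ZMod.lift_coe n _ 1).trans (one_zsmul _)
  let ψ : ZMod 3 × ZMod 2 × ZMod 2 →+ Additive N :=
    (f 3 ⟨a, ha⟩ (Subtype.ext h3)).coprod ((f 2 ⟨b, hb⟩ (Subtype.ext (by rw [pow_two]; exact hb2))).coprod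
      (f 2 ⟨c, hc⟩ (Subtype.ext (by rw [pow_two]; exact hc2))))
  refine ⟨AddMonoidHom.toMultiplicativeLeft ψ, fun x => ?_⟩
  have hle : N ≤ ((AddMonoidHom.toMultiplicativeLeft ψ).range).map N.subtype := by
    refine hgen.trans ((Subgroup.closure_le _).2 ?_)
    rintro y (rfl | rfl | rfl)
    · exact ⟨⟨y, ha⟩, ⟨Multiplicative.ofAdd (1, 0, 0), by
        show Additive.toMul (ψ (1, 0, 0)) = _
        simp only [ψ, AddMonoidHom.coprod_apply, map_zero, add_zero, hf]
        rfl⟩, rfl⟩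
    · exact ⟨⟨y, hb⟩, ⟨Multiplicative.ofAdd (0, 1, 0), by
        show Additive.toMul (ψ (0, 1, 0)) = _
        simp only [ψ, AddMonoidHom.coprod_apply, map_zero, add_zero, zero_add, hf]
        rfl⟩, rfl⟩
    · exact ⟨⟨y, hc⟩, ⟨Multiplicative.ofAdd (0, 0, 1), by
        show Additive.toMul (ψ (0, 0, 1)) = _
        simp only [ψ, AddMonoidHom.coprod_apply, map_zero, zero_add, hf]
        rfl⟩, rfl⟩
  obtain ⟨y, hy, hyx⟩ := hle x.2
  obtain ⟨z, hz⟩ := hy
  exact ⟨z, hz.trans (Subtype.ext hyx)⟩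

end Cfsg.Agent.PSUMult.SixTwo
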