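import Cfsg.Agent.PSUMult.SixTwo.Words
import Cfsg.Agent.PSUMult.SixTwo.Generators
import Cfsg.Agent.PSUMult.SixTwo.Perfect
import Cfsg.Agent.S0280
import Cfsg.Agent.PSUMult.PPart
import Cfsg.Agent.Classical.UnitaryGroup
import Cfsg.Prelude.Def_KGroupFacts

/-!
A stem extension of `PSU(6, 2)` with kernel `Z3 × Z2 × Z2`: the triple cover together with two double covers.
-/

set_option autoImplicit false
set_option maxRecDepth 100000

namespace Cfsg.Agent.PSUMult.SixTwo

open Cfsg.Agent.CosetCert Cfsg.Agent.Classical Cfsg.Agent.Classical.Herm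
open Cfsg.Agent.Fi22U62Iso Cfsg.Agent.CosetCert.Fi22U62
open Cfsg.Agent.ThreeTrans.SU32
open scoped Matrix commutatorElement

theorem perfect_SU : commutator (Cfsg.SU 6 K 2) = ⊤ := by
  let e := suEquiv 6 (σ := (F4.frob : K →+* K)) frob_sq
  have h1 : commutator (suG (hermB 6 (F4.frob : K →+* K))) = ⊤ :=
    suG_perfect (hermB_isHerm frob_invol 6) (by rw [Module.finrank_fin_fun]; norm_num)
      ((Module.finrank_fin_fun K (n := 6)).symm ▸ hr_of_not_three_two frob_fix (by norm_num) (by norm_num))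
  have hsurj : Function.Surjective (e.symm.toMonoidHom : suG (hermB 6 (F4.frob : K →+* K)) →* Cfsg.SU 6 K 2) :=
    e.symm.surjective
  rw [commutator_def, ← Subgroup.map_top_of_surjective _ hsurj, ← Subgroup.map_commutator, ← commutator_def, h1]

theorem perfect_PSU : commutator (Cfsg.PSU 6 K 2) = ⊤ := by
  have h := QuotientGroup.mk'_surjective (Subgroup.center (Cfsg.SU 6 K 2))
  rw [commutator_def, ← Subgroup.map_top_of_surjective _ h, ← Subgroup.map_commutator, ← commutator_def,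
    perfect_SU]

theorem card_center_six : Nat.card (Subgroup.center (Cfsg.SU 6 K 2)) = 3 := by
  rw [card_center_SU frob_invol frob_sq frob_fix (by norm_num)]
  rfl

/-- The double cover, its kernel, and two elements told apart by the diagonal automorphism. -/
theorem exists_double : ∃ β : H →* Cfsg.PSU 6 K 2, Function.Surjective β ∧ Nat.card β.ker = 2 ∧
    β.ker ≤ Subgroup.center H ∧ commutator H = ⊤ ∧
    ∃ a g a' g' : H, diaP (β a) = β a' ∧ diaP (β g) = β g' ∧ ⁅a, g⁆ ^ 9 = 1 ∧ ⁅a', g'⁆ ^ 9 ≠ 1 := by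
  classical
  obtain ⟨β, hβ, hz, hz1, hgen⟩ := exists_hom
  obtain ⟨φ, π, hπ, hfwd⟩ := Data.enumeration valid spells
  have : Finite H := Nat.finite_of_card_ne_zero (by rw [card_H]; norm_num)
  have hk : Nat.card β.ker = 2 := by
    have h := β.ker.card_eq_card_quotient_mul_card_subgroup
    rw [card_H, Nat.card_congr (QuotientGroup.quotientKerEquivOfSurjective β hβ).toEquiv, card_psu] at h
    omega
  have hu : ∀ y : H, y ∈ β.ker → y = 1 ∨ y = sqEl := by
    intro y hy
    by_cases hy1 : y = 1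
    · exact Or.inl hy1
    obtain ⟨z, -, hzu⟩ := (Nat.card_eq_two_iff' (1 : β.ker)).1 hk
    have e1 := hzu ⟨y, hy⟩ (fun h => hy1 (congrArg Subtype.val h))
    have e2 := hzu ⟨sqEl, hz⟩ (fun h => hz1 (congrArg Subtype.val h))
    exact Or.inr (congrArg Subtype.val (e1.trans e2.symm))
  have hcen : β.ker ≤ Subgroup.center H := by
    intro k hk'
    refine Subgroup.mem_center_iff.2 fun g => ?_
    rcases hu k hk' with rfl | rfl
    · simp
    · rcases hu _ (β.normal_ker.conj_mem _ hz g) with h | h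
      · exact absurd (conj_eq_one_iff.1 h) hz1
      · exact mul_inv_eq_iff_eq_mul.1 h
  have hperf : commutator H = ⊤ := by
    set L := commutator H with hL
    have hmap : L.map β = ⊤ := commutator_map_of_perfect β hβ perfect_PSU
    have hzL : sqEl ∈ L := by
      by_contra hn
      have hidx : L.index = 2 := by
        have hb : L ⊓ β.ker = ⊥ := (Subgroup.eq_bot_iff_forall _).2 fun y hy => by
          rcases hu y hy.2 with rfl | rfl
          · rfl
          · exact absurd hy.1 hn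
        have h2 : Nat.card L = Nat.card (Cfsg.PSU 6 K 2) := by
          rw [← Subgroup.card_top (G := Cfsg.PSU 6 K 2), ← hmap]
          refine Nat.card_congr (Equiv.ofBijective (fun x : L => (⟨β x.1, x.1, x.2, rfl⟩ : L.map β)) ⟨?_, ?_⟩)
          · intro x y hxy
            have e : β x.1 = β y.1 := congrArg Subtype.val hxy
            have : x.1⁻¹ * y.1 ∈ L ⊓ β.ker := Subgroup.mem_inf.2 ⟨mul_mem (inv_mem x.2) y.2,
              MonoidHom.mem_ker.2 (by rw [map_mul, map_inv, e, inv_mul_cancel])⟩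
            rw [hb] at this
            exact Subtype.ext (inv_mul_eq_one.1 (Subgroup.mem_bot.1 this))
          · rintro ⟨_, x, hx, rfl⟩
            exact ⟨⟨x, hx⟩, rfl⟩
        have h3 := L.card_mul_index
        rw [h2, card_psu, card_H] at h3
        omega
      refine hn (list_prod_mem fun y hy => ?_)
      obtain ⟨x, -, rfl⟩ := List.mem_map.1 hy
      exact Subgroup.mul_self_mem_of_index_two hidx _
    refine eq_top_iff.2 fun x _ => ?_
    obtain ⟨y, hy, hyx⟩ := hmap.ge (Subgroup.mem_top (β x))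
    have hyk : y⁻¹ * x ∈ β.ker := by rw [MonoidHom.mem_ker, map_mul, map_inv, hyx, inv_mul_cancel]
    rw [show x = y * (y⁻¹ * x) by group]
    refine mul_mem hy ?_
    rcases hu _ hyk with h | h <;> rw [h]
    exacts [one_mem _, hzL]
  refine ⟨β, hβ, hk, hcen, hperf, (CoverData.wA.map hEl).prod, (CoverData.wG.map hEl).prod,
    (CoverData.wA2.map hEl).prod, (CoverData.wG2.map hEl).prod, ?_, ?_, ?_, ?_⟩
  · rw [β_prod hgen, β_prod hgen, diaP_mk, conj_spec _ _ CoverData.conj_a]
  · rw [β_prod hgen, β_prod hgen, diaP_mk, conj_spec _ _ CoverData.conj_g]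
  · have hker : (comEl CoverData.wA CoverData.wG) ^ 9 ∈ β.ker := by
      rw [MonoidHom.mem_ker, map_pow, comEl, map_commutatorElement, β_prod hgen, β_prod hgen,
        ← map_commutatorElement, ← map_pow]
      have hm : ⁅matProd CoverData.wA, matProd CoverData.wG⁆ ^ 9 = 1 := by
        have e : matProd (CoverData.pWord CoverData.wA CoverData.wG) =
            ⁅matProd CoverData.wA, matProd CoverData.wG⁆ ^ 9 := by
          rw [CoverData.pWord, matProd_flatten_replicate, CoverData.cWord, matProd_append, matProd_append,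
            matProd_append, matProd_reverse, matProd_reverse, commutatorElement_def]
        rw [← e]
        refine Subtype.ext (Subtype.ext (Matrix.ext_of_mulVec_single fun i => ?_))
        have h1 := (allFrom_iff _ _ _).1 CoverData.pow_scalar (i : ℕ) (Nat.zero_le _)
          (by rw [Nat.zero_add]; exact i.2)
        have h2 := congrArg vecOf (Nat.eq_of_beq_eq_true h1)
        rw [appM_spec, CoverData.code_unit] at h2
        rw [h2]
        simp only [Subgroup.coe_one, Matrix.SpecialLinearGroup.coe_one, Matrix.one_mulVec]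
      rw [hm, map_one]
    rcases hu _ hker with h | h
    · exact h
    · exfalso
      have h1 : data.fwd ((CoverData.sPow CoverData.wA CoverData.wG).flatMap CoverData.letters) movedPt = movedPt :=
        Nat.eq_of_beq_eq_true CoverData.pow_fix
      have h2 := comEl_pow_apply φ hfwd CoverData.wA CoverData.wG ⟨movedPt, sqWord_move.2⟩
      rw [h, h1, sqEl_apply φ hfwd] at h2
      exact sqWord_move.1 h2
  · intro h
    have h2 := comEl_pow_apply φ hfwd CoverData.wA2 CoverData.wG2 ⟨movedPt, sqWord_move.2⟩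
    rw [show comEl CoverData.wA2 CoverData.wG2 ^ 9 = 1 from h] at h2
    simp only [Subgroup.coe_one, map_one, inv_one, Equiv.Perm.one_apply] at h2
    have h3 := CoverData.pow_move
    rw [← h2] at h3
    simp at h3

/-- The cover. -/
theorem exists_cover : ∃ (Γ : Type) (_ : Group Γ) (_ : Finite Γ) (σ : Γ →* Cfsg.PSU 6 K 2),
    Cfsg.IsStemExtension σ ∧ Nonempty (σ.ker ≃* A12) := by
  classical
  obtain ⟨β, hβ, hk, hcen, hperfH, a, g, a', g', ha, hg, h9, h9'⟩ := exists_double
  let : Finite H := Nat.finite_of_card_ne_zero (by rw [card_H]; norm_num)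
  let μ : Cfsg.SU 6 K 2 →* Cfsg.PSU 6 K 2 := QuotientGroup.mk' (Subgroup.center (Cfsg.SU 6 K 2))
  have hμ : Function.Surjective μ := QuotientGroup.mk'_surjective _
  have hμk : ∀ s, μ s = 1 → s ∈ Subgroup.center (Cfsg.SU 6 K 2) := fun s hs => (QuotientGroup.eq_one_iff s).1 hs
  let P : Subgroup (Cfsg.SU 6 K 2 × H × H) :=
    { carrier := {x | μ x.1 = β x.2.1 ∧ diaP (μ x.1) = β x.2.2}
      one_mem' := by simp
      mul_mem' := fun {x y} hx hy => by
        simp only [Set.mem_setOf_eq, Prod.fst_mul, Prod.snd_mul, map_mul] at *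
        exact ⟨by rw [hx.1, hy.1], by rw [hx.2, hy.2]⟩
      inv_mem' := fun {x} hx => by
        simp only [Set.mem_setOf_eq, Prod.fst_inv, Prod.snd_inv, map_inv] at *
        exact ⟨by rw [hx.1], by rw [hx.2]⟩ }
  let f : P →* Cfsg.PSU 6 K 2 := μ.comp ((MonoidHom.fst _ _).comp P.subtype)
  have lift : ∀ (s : Cfsg.SU 6 K 2) (x y : H), μ s = β x → diaP (μ s) = β y → (s, x, y) ∈ P := fun _ _ _ h1 h2 =>
    ⟨h1, h2⟩
  have hf : Function.Surjective f := fun u => by
    obtain ⟨s, rfl⟩ := hμ u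
    obtain ⟨x, hx⟩ := hβ (μ s)
    obtain ⟨y, hy⟩ := hβ (diaP (μ s))
    exact ⟨⟨_, lift s x y hx.symm hy.symm⟩, rfl⟩
  have hfc : f.ker ≤ Subgroup.center P := by
    intro x hx
    have h0 : μ x.1.1 = 1 := hx
    have h1 : x.1.2.1 ∈ β.ker := by rw [MonoidHom.mem_ker, ← x.2.1]; exact h0
    have h2 : x.1.2.2 ∈ β.ker := by rw [MonoidHom.mem_ker, ← x.2.2, h0, map_one]
    refine Subgroup.mem_center_iff.2 fun y => Subtype.ext (Prod.ext ?_ (Prod.ext ?_ ?_))
    · exact Subgroup.mem_center_iff.1 (hμk _ h0) _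
    · exact Subgroup.mem_center_iff.1 (hcen h1) _
    · exact Subgroup.mem_center_iff.1 (hcen h2) _
  let Γ := ↥(commutator P)
  let σ : Γ →* Cfsg.PSU 6 K 2 := f.comp (commutator P).subtype
  have hmap := commutator_map_of_perfect f hf perfect_PSU
  have hσ : Function.Surjective σ := fun u => by
    obtain ⟨x, hx, rfl⟩ := hmap.ge (Subgroup.mem_top u)
    exact ⟨⟨x, hx⟩, rfl⟩
  have hperf : commutator Γ = ⊤ := commutator_perfect f hf perfect_PSU hfc
  have hσc : σ.ker ≤ Subgroup.center Γ := fun x hx => Subgroup.mem_center_iff.2 fun y =>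
    Subtype.ext (Subgroup.mem_center_iff.1 (hfc hx) y.1)
  have hstem : Cfsg.IsStemExtension σ := ⟨hσ, hσc, by rw [hperf]; exact le_top⟩
  -- the three projections
  let q0 : Γ →* Cfsg.SU 6 K 2 := (MonoidHom.fst _ _).comp (P.subtype.comp (commutator P).subtype)
  let q1 : Γ →* H := ((MonoidHom.fst _ _).comp (MonoidHom.snd _ _)).comp (P.subtype.comp (commutator P).subtype)
  let q2 : Γ →* H := ((MonoidHom.snd _ _).comp (MonoidHom.snd _ _)).comp (P.subtype.comp (commutator P).subtype)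
  have surj : ∀ {G : Type} [Group G] (q : P →* G), Function.Surjective q → commutator G = ⊤ →
      ∀ u, ∃ x : Γ, q x.1 = u := fun {G} _ q hq hG u => by
    obtain ⟨x, hx, rfl⟩ := (commutator_map_of_perfect q hq hG).ge (Subgroup.mem_top u)
    exact ⟨⟨x, hx⟩, rfl⟩
  have hq0 : Function.Surjective q0 := fun u => by
    refine surj ((MonoidHom.fst _ _).comp P.subtype) (fun s => ?_) perfect_SU u
    obtain ⟨x, hx⟩ := hβ (μ s)
    obtain ⟨y, hy⟩ := hβ (diaP (μ s))
    exact ⟨⟨_, lift s x y hx.symm hy.symm⟩, rfl⟩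
  have hq1 : Function.Surjective q1 := fun u => by
    refine surj (((MonoidHom.fst _ _).comp (MonoidHom.snd _ _)).comp P.subtype) (fun x => ?_) hperfH u
    obtain ⟨s, hs⟩ := hμ (β x)
    obtain ⟨y, hy⟩ := hβ (diaP (μ s))
    exact ⟨⟨_, lift s x y hs hy.symm⟩, rfl⟩
  have hσ1 : ∀ x : Γ, σ x = β (q1 x) := fun x => x.1.2.1
  have hσ2 : ∀ x : Γ, diaP (σ x) = β (q2 x) := fun x => x.1.2.2
  have hσ0 : ∀ x : Γ, σ x = μ (q0 x) := fun _ => rfl
  have hext : ∀ x y : Γ, q0 x = q0 y → q1 x = q1 y → q2 x = q2 y → x = y := fun x y h0 h1 h2 =>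
    Subtype.ext (Subtype.ext (Prod.ext h0 (Prod.ext h1 h2)))
  have hsq : ∀ z : H, β z = 1 → z * z = 1 := fun z hz => by
    have h : (⟨z, hz⟩ : β.ker) ^ Nat.card β.ker = 1 := pow_card_eq_one'
    rw [hk, pow_two] at h
    exact congrArg Subtype.val h
  have hcube : ∀ s : Cfsg.SU 6 K 2, μ s = 1 → s ^ 3 = 1 := fun s hs => by
    have h : (⟨s, hμk s hs⟩ : Subgroup.center (Cfsg.SU 6 K 2)) ^ Nat.card (Subgroup.center (Cfsg.SU 6 K 2)) = 1 :=
      pow_card_eq_one'
    rw [card_center_six] at h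
    exact congrArg Subtype.val h
  have hkers : ∀ x : Γ, σ x = 1 → (q0 x) ^ 3 = 1 ∧ q1 x * q1 x = 1 ∧ q2 x * q2 x = 1 := fun x hx =>
    ⟨hcube _ ((hσ0 x).symm.trans hx), hsq _ ((hσ1 x).symm.trans hx), hsq _ (by rw [← hσ2, hx, map_one])⟩
  -- a kernel element of the third factor alone
  obtain ⟨x2, hx2, h20, h21, h22⟩ : ∃ x : Γ, σ x = 1 ∧ q0 x = 1 ∧ q1 x = 1 ∧ q2 x ≠ 1 := by
    by_contra hne
    push Not at hne
    have inj : ∀ x : Γ, q1 x = 1 → q2 x = 1 := fun x hx => by
      have hx' : σ x = 1 := by rw [hσ1, hx, map_one]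
      obtain ⟨k0, k1, k2⟩ := hkers x hx'
      have := hne (x ^ 3) (by rw [map_pow, hx', one_pow]) (by rw [map_pow]; exact k0)
        (by rw [map_pow, hx, one_pow])
      rw [map_pow, pow_succ, pow_two, k2, one_mul] at this
      exact this
    obtain ⟨A, hA⟩ := hq1 a
    obtain ⟨G, hG⟩ := hq1 g
    have hA2 : β (q2 A) = β a' := by rw [← hσ2, hσ1, hA, ha]
    have hG2 : β (q2 G) = β g' := by rw [← hσ2, hσ1, hG, hg]
    have hc : q2 (⁅A, G⁆ ^ 9) = ⁅a', g'⁆ ^ 9 := by
      rw [map_pow, map_commutatorElement]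
      congr 1
      have e : ∀ {x y : H}, β x = β y → ∀ z : H, ⁅x, z⁆ = ⁅y, z⁆ ∧ ⁅z, x⁆ = ⁅z, y⁆ := by
        intro x y hxy z
        have hk' : y⁻¹ * x ∈ Subgroup.center H := hcen (by rw [MonoidHom.mem_ker, map_mul, map_inv, hxy, inv_mul_cancel])
        have hc' := Subgroup.mem_center_iff.1 hk'
        have hx : x = y * (y⁻¹ * x) := by group
        generalize y⁻¹ * x = k at hc' hx
        subst hx
        simp only [commutatorElement_def]
        constructor
        · calc y * k * z * (y * k)⁻¹ * z⁻¹ = y * (k * z) * k⁻¹ * y⁻¹ * z⁻¹ := by group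
            _ = y * (z * k) * k⁻¹ * y⁻¹ * z⁻¹ := by rw [hc' z]
            _ = _ := by group
        · calc z * (y * k) * z⁻¹ * (y * k)⁻¹ = z * y * (k * z⁻¹) * k⁻¹ * y⁻¹ := by group
            _ = z * y * (z⁻¹ * k) * k⁻¹ * y⁻¹ := by rw [hc' z⁻¹]
            _ = _ := by group
      rw [(e hA2 _).1, (e hG2 _).2]
    exact h9' (hc ▸ inj _ (by rw [map_pow, map_commutatorElement, hA, hG, h9]))
  -- a kernel element with nontrivial second factor and trivial first
  obtain ⟨z1, hz1, hz11⟩ : ∃ z : H, β z = 1 ∧ z ≠ 1 := by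
    have : Nontrivial β.ker := Finite.one_lt_card_iff_nontrivial.1 (by rw [hk]; norm_num)
    obtain ⟨z, hz⟩ := exists_ne (1 : β.ker)
    exact ⟨z.1, z.2, fun h => hz (Subtype.ext h)⟩
  obtain ⟨x1', hx1'⟩ := hq1 z1
  set x1 := x1' ^ 3 with hx1
  have h1σ : σ x1' = 1 := by rw [hσ1, hx1', hz1]
  have h10 : q0 x1 = 1 := by rw [map_pow]; exact (hkers _ h1σ).1
  have h11 : q1 x1 = z1 := by rw [map_pow, hx1', pow_succ, pow_two, hsq z1 hz1, one_mul]
  -- a kernel element of order three
  obtain ⟨c, hc⟩ : ∃ c : Cfsg.SU 6 K 2, μ c = 1 ∧ c ≠ 1 := by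
    have : Nontrivial (Subgroup.center (Cfsg.SU 6 K 2)) := Finite.one_lt_card_iff_nontrivial.1 (by
      rw [card_center_six]; norm_num)
    obtain ⟨z, hz⟩ := exists_ne (1 : Subgroup.center (Cfsg.SU 6 K 2))
    exact ⟨z.1, (QuotientGroup.eq_one_iff _).2 z.2, fun h => hz (Subtype.ext h)⟩
  obtain ⟨x0', hx0'⟩ := hq0 c
  set x0 := x0' ^ 4 with hx0
  have h0σ : σ x0' = 1 := by rw [hσ0, hx0', hc.1]
  have h00 : q0 x0 = c := by rw [map_pow, hx0', pow_succ, hcube c hc.1, one_mul]
  have h01 : q1 x0 = 1 := by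
    rw [map_pow, show (4 : ℕ) = 2 * 2 from rfl, pow_mul, pow_two (q1 x0'), (hkers _ h0σ).2.1, one_pow]
  have h02 : q2 x0 = 1 := by
    rw [map_pow, show (4 : ℕ) = 2 * 2 from rfl, pow_mul, pow_two (q2 x0'), (hkers _ h0σ).2.2, one_pow]
  have kσ0 : σ x0 = 1 := by rw [map_pow, h0σ, one_pow]
  have kσ1 : σ x1 = 1 := by rw [map_pow, h1σ, one_pow]
  have e3 : x0 ^ 3 = 1 := hext _ _ (by rw [map_pow, h00, hcube c hc.1, map_one])
    (by rw [map_pow, h01, one_pow, map_one]) (by rw [map_pow, h02, one_pow, map_one])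
  have e1 : x1 * x1 = 1 := by
    obtain ⟨-, -, k2⟩ := hkers x1 kσ1
    exact hext _ _ (by rw [map_mul, h10, one_mul, map_one]) (by rw [map_mul, h11, hsq z1 hz1, map_one])
      (by rw [map_mul, k2, map_one])
  have e2 : x2 * x2 = 1 := by
    obtain ⟨-, -, k2⟩ := hkers x2 hx2
    exact hext _ _ (by rw [map_mul, h20, one_mul, map_one]) (by rw [map_mul, h21, one_mul, map_one])
      (by rw [map_mul, k2, map_one])
  have two : ∀ {z : H}, β z = 1 → z ≠ 1 → ∀ y, β y = 1 → y = 1 ∨ y = z := fun {z} hz hz1 y hy => by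
    by_cases h : y = 1
    · exact Or.inl h
    obtain ⟨w, -, hw⟩ := (Nat.card_eq_two_iff' (1 : β.ker)).1 hk
    exact Or.inr (congrArg Subtype.val ((hw ⟨y, hy⟩ (fun e => h (congrArg Subtype.val e))).trans
      (hw ⟨z, hz⟩ (fun e => hz1 (congrArg Subtype.val e))).symm))
  have hgen : σ.ker ≤ Subgroup.closure ({x0, x1, x2} : Set Γ) := by
    intro x hx
    have hx : σ x = 1 := hx
    have m0 : x0 ∈ Subgroup.closure ({x0, x1, x2} : Set Γ) := Subgroup.subset_closure (by simp)
    have m1 : x1 ∈ Subgroup.closure ({x0, x1, x2} : Set Γ) := Subgroup.subset_closure (by simp)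
    have m2 : x2 ∈ Subgroup.closure ({x0, x1, x2} : Set Γ) := Subgroup.subset_closure (by simp)
    have hcyc : q0 x ∈ Subgroup.zpowers c := by
      have h3 := card_center_six
      let cc : Subgroup.center (Cfsg.SU 6 K 2) := ⟨c, hμk c hc.1⟩
      have : Fact (Nat.Prime 3) := ⟨Nat.prime_three⟩
      have htop : Subgroup.zpowers cc = ⊤ := zpowers_eq_top_of_prime_card h3 (fun e => hc.2 (congrArg Subtype.val e))
      obtain ⟨j, hj⟩ := htop.ge (Subgroup.mem_top (⟨q0 x, hμk _ ((hσ0 x).symm.trans hx)⟩ : Subgroup.center _))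
      exact ⟨j, congrArg Subtype.val hj⟩
    obtain ⟨j, hj⟩ := hcyc
    have hj : c ^ j = q0 x := hj
    set y := (x0 ^ j)⁻¹ * x with hy
    have y0 : q0 y = 1 := by rw [map_mul, map_inv, map_zpow, h00, hj, inv_mul_cancel]
    have yσ : σ y = 1 := by rw [map_mul, map_inv, map_zpow, kσ0, hx, one_zpow, inv_one, one_mul]
    suffices y ∈ Subgroup.closure ({x0, x1, x2} : Set Γ) by
      rw [show x = x0 ^ j * y by rw [hy, mul_inv_cancel_left]]
      exact mul_mem (zpow_mem m0 j) this
    have key : ∀ y : Γ, σ y = 1 → q0 y = 1 → q1 y = 1 → y ∈ Subgroup.closure ({x0, x1, x2} : Set Γ) := by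
      intro y yσ y0 y1
      rcases two (by rw [← hσ2, hx2, map_one]) h22 (q2 y) (by rw [← hσ2, yσ, map_one]) with h | h
      · rw [hext y 1 (by rw [y0, map_one]) (by rw [y1, map_one]) (by rw [h, map_one])]; exact one_mem _
      · rw [hext y x2 (by rw [y0, h20]) (by rw [y1, h21]) h]; exact m2
    rcases two hz1 hz11 (q1 y) (by rw [← hσ1, yσ]) with h | h
    · exact key y yσ y0 h
    · have := key (x1⁻¹ * y) (by rw [map_mul, map_inv, kσ1, yσ, inv_one, one_mul])
        (by rw [map_mul, map_inv, h10, y0, inv_one, one_mul]) (by rw [map_mul, map_inv, h11, h, inv_mul_cancel])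
      have := mul_mem m1 this
      rwa [mul_inv_cancel_left] at this
  obtain ⟨ψ, hψ⟩ := exists_surjective_A12 σ.ker hσc (a := x0) (b := x1) (c := x2) kσ0 kσ1 hx2 e3 e1 e2 hgen
  refine ⟨Γ, inferInstance, inferInstance, σ, hstem, ⟨(MulEquiv.ofBijective ψ ?_).symm⟩⟩
  -- twelve distinct elements
  have hle : Nat.card A12 ≤ Nat.card σ.ker := by
    rw [card_A12]
    have h3 : 3 ∣ Nat.card σ.ker := by
      have ho : orderOf x0 = 3 := by
        have : Fact (Nat.Prime 3) := ⟨Nat.prime_three⟩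
        exact orderOf_eq_prime e3 fun e => hc.2 (by rw [← h00, e, map_one])
      have := orderOf_dvd_natCard (G := σ.ker) (⟨x0, kσ0⟩ : σ.ker)
      rwa [← Subgroup.orderOf_coe, ho] at this
    have h4 : 4 ∣ Nat.card σ.ker := by
      let χ : σ.ker →* β.ker × β.ker := MonoidHom.mk' (fun x => (⟨q1 x.1, by
          rw [MonoidHom.mem_ker, ← hσ1]; exact x.2⟩, ⟨q2 x.1, by
          rw [MonoidHom.mem_ker, ← hσ2, show σ x.1 = 1 from x.2, map_one]⟩))
        fun x y => Prod.ext (Subtype.ext (map_mul q1 _ _)) (Subtype.ext (map_mul q2 _ _))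
      have hχ : Function.Surjective χ := by
        rintro ⟨⟨u, hu⟩, ⟨v, hv⟩⟩
        have hb2 : β (q2 x1) = 1 := by rw [← hσ2, kσ1, map_one]
        rcases two hz1 hz11 u hu with rfl | rfl
        · rcases two (by rw [← hσ2, hx2, map_one]) h22 v hv with rfl | rfl
          · exact ⟨1, map_one χ⟩
          · exact ⟨⟨x2, hx2⟩, Prod.ext (Subtype.ext h21) (Subtype.ext rfl)⟩
        · rcases two (by rw [← hσ2, hx2, map_one]) h22 ((q2 x1)⁻¹ * v) (by
            rw [map_mul, map_inv, hb2, hv, inv_one, one_mul]) with e | e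
          · exact ⟨⟨x1, kσ1⟩, Prod.ext (Subtype.ext h11) (Subtype.ext (inv_mul_eq_one.1 e))⟩
          · refine ⟨⟨x1 * x2, by rw [MonoidHom.mem_ker, map_mul, kσ1, hx2, one_mul]⟩,
              Prod.ext (Subtype.ext ?_) (Subtype.ext ?_)⟩
            · show q1 (x1 * x2) = u
              rw [map_mul, h11, h21, mul_one]
            · show q2 (x1 * x2) = v
              rw [map_mul, ← e, mul_inv_cancel_left]
      have := Subgroup.card_dvd_of_surjective χ hχ
      rwa [Nat.card_prod, hk] at this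
    exact Nat.le_of_dvd Nat.card_pos (Nat.Coprime.mul_dvd_of_dvd_of_dvd (by norm_num) h3 h4 : 3 * 4 ∣ _)
  have : Finite A12 := inferInstanceAs (Finite (Multiplicative (ZMod 3 × ZMod 2 × ZMod 2)))
  have heq : Nat.card A12 = Nat.card σ.ker :=
    le_antisymm hle (Nat.card_le_card_of_surjective ψ hψ)
  exact (Nat.bijective_iff_surjective_and_card ψ).2 ⟨hψ, heq⟩

end Cfsg.Agent.PSUMult.SixTwo
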