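import Cfsg.Agent.Fi22U62Iso.Data

/-!
Generated: words in the nine generators lifting two elements and their conjugates under a diagonal matrix.
-/

set_option autoImplicit false

namespace Cfsg.Agent.PSUMult.SixTwo.CoverData

/-- A word in the generators. -/
def wA : List (Fin 9) := [8, 3, 2, 6, 7, 4, 8, 5, 4, 3, 2, 1, 2, 3, 4, 5, 8, 4, 7, 6, 2, 3, 8, 2, 1, 2, 4, 8, 6, 5, 4, 3, 2, 1, 2, 3, 4, 5, 6, 8, 4]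

/-- A word in the generators. -/
def wG : List (Fin 9) := [4, 8, 3, 2, 6, 7, 2, 3, 4, 8, 5, 4, 3, 2, 1, 2, 3, 4, 5, 8, 4, 3, 2, 7, 6, 2, 3, 8, 4, 4, 8, 3, 4, 2, 3, 1, 2, 1, 2, 1, 3, 2, 4, 3, 8, 4, 3, 4, 8, 6, 5, 4, 3, 2, 1, 2, 3, 4, 5, 6, 8, 4, 3]

/-- A word in the generators. -/
def wA2 : List (Fin 9) := [8, 3, 2, 6, 7, 4, 8, 5, 4, 3, 2, 1, 2, 3, 4, 5, 8, 4, 7, 6, 2, 3, 8, 2, 1, 2, 8, 7, 6, 1, 2, 1, 2, 1, 6, 7, 8]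

/-- A word in the generators. -/
def wG2 : List (Fin 9) := [4, 8, 3, 2, 6, 7, 2, 3, 4, 8, 5, 4, 3, 2, 1, 2, 3, 4, 5, 8, 4, 3, 2, 7, 6, 2, 3, 8, 4, 6, 7, 2, 6, 1, 2, 1, 2, 1, 6, 2, 7, 6, 8, 7, 6, 3, 1, 2, 1, 2, 1, 3, 6, 7, 8]

end Cfsg.Agent.PSUMult.SixTwo.CoverData
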