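import Cfsg.Agent.Fi22U62Iso.Check
import Cfsg.Agent.PSUMult.SixTwo.CoverData

/-!
Checks for the two elements whose commutator tells the double covers apart.
-/

set_option autoImplicit false
set_option maxRecDepth 100000

namespace Cfsg.Agent.PSUMult.SixTwo.CoverData

open Cfsg.Agent.CosetCert Cfsg.Agent.Fi22U62Iso
open Cfsg.Agent.ThreeTrans.SU32
open scoped Matrix

/-- The code of the image of a coded vector under a product of matrices of generators. -/
noncomputable def appM (w : List (Fin 9)) (v : ℕ) : ℕ :=
  List.rec (motive := fun _ => ℕ) v (fun k _ r => force r fun r' => codeOf (genMat k *ᵥ vecOf r')) w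

/-- The diagonal matrix. -/
def dia : Fin 6 → K := fun i => if i = 0 then F4.w else 1

/-- The diagonal matrix on codes. -/
noncomputable def dCode (v : ℕ) : ℕ := codeOf fun i => dia i * vecOf v i

/-- The unit vector. -/
def unitCode (i : ℕ) : ℕ := 4 ^ i

/-- The commutator word. -/
def cWord (u v : List (Fin 9)) : List (Fin 9) := u ++ v ++ u.reverse ++ v.reverse

/-- The ninth power of the commutator word. -/
def pWord (u v : List (Fin 9)) : List (Fin 9) := (List.replicate 9 (cWord u v)).flatten

/-- The commutator word with signs. -/
def sWord (u v : List (Fin 9)) : List (Fin 9 × Bool) :=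
  (u.map fun k => (k, true)) ++ (v.map fun k => (k, true)) ++ (u.reverse.map fun k => (k, false)) ++
    (v.reverse.map fun k => (k, false))

/-- Its ninth power. -/
def sPow (u v : List (Fin 9)) : List (Fin 9 × Bool) := (List.replicate 9 (sWord u v)).flatten

/-- The letters of a signed generator. -/
noncomputable def letters (x : Fin 9 × Bool) : List ℕ :=
  cond x.2 (genWord (x.1 : ℕ)) (genWord (x.1 : ℕ)).reverse

theorem gen_invol : ∀ k : Fin 9, genMat k * genMat k = 1 := by decide +kernel

theorem conj_a : allFrom (fun i => Nat.beq (appM wA2 (dCode (unitCode i))) (dCode (appM wA (unitCode i)))) 0 6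
    = true := by decide +kernel

theorem conj_g : allFrom (fun i => Nat.beq (appM wG2 (dCode (unitCode i))) (dCode (appM wG (unitCode i)))) 0 6
    = true := by decide +kernel

theorem pow_scalar : allFrom (fun i => Nat.beq (appM (pWord wA wG) (unitCode i)) (unitCode i)) 0 6
    = true := by decide +kernel

theorem pow_fix : Nat.beq (Fi22U62.data.fwd ((sPow wA wG).flatMap letters) movedPt)
    movedPt = true := by decide +kernel

theorem pow_move : Nat.beq (Fi22U62.data.fwd ((sPow wA2 wG2).flatMap letters) movedPt)
    movedPt = false := by decide +kernel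

theorem code_unit : ∀ i : Fin 6, vecOf (unitCode i) = Pi.single i 1 := by decide +kernel

end Cfsg.Agent.PSUMult.SixTwo.CoverData
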