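import Cfsg.Agent.PSUMult.Invariant

/-!
The difference of two complements over the radical, as a homomorphism from the orthogonal space to the kernel.
-/

set_option autoImplicit false
set_option linter.unusedSectionVars false

namespace Cfsg.Agent.PSUMult

open Module Cfsg.Agent.Classical Cfsg.Agent.Classical.Herm
open scoped commutatorElement

variable {F V : Type*} [Field F] [Fintype F] [AddCommGroup V] [Module F V] [FiniteDimensional F V]
  {σ : F →+* F} {B : V →ₛₗ[σ] V →ₗ[F] F} {Γ : Type*} [Group Γ] [Finite Γ]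

namespace PData

variable {E : Ext B Γ} {p q : ℕ} {e f : V} {m : ℕ} {u : Fin m → V} (P : PData E p q e f u)
include P

/-- The element of a complement over a vector. -/
noncomputable def cel {M : Subgroup Γ} (hM : IsComp E e f P.frame.ee M) (a : Fin m → F) : Γ :=
  (hM.surj (emb u a) (P.emb_mem_W a) (P.dd a) (P.dd_spec a)).choose

theorem cel_spec {M : Subgroup Γ} (hM : IsComp E e f P.frame.ee M) (a : Fin m → F) :
    P.cel hM a ∈ M ∧ E.π (P.cel hM a) = qel E.herm e (emb u a) (P.dd a) :=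
  (hM.surj (emb u a) (P.emb_mem_W a) (P.dd a) (P.dd_spec a)).choose_spec

variable {M M' M'' : Subgroup Γ} (hM : IsComp E e f P.frame.ee M) (hM' : IsComp E e f P.frame.ee M')
  (hM'' : IsComp E e f P.frame.ee M'')

include hM hM' in
theorem eq_of_mem_Zt {z z' : Γ} (hz : z ∈ M) (hz' : z' ∈ M') (hZ : z ∈ P.Zt) (he : E.π z = E.π z') :
    z = z' := by
  obtain ⟨v, hv, v', hv', hπ⟩ := P.exists_comm_eq hZ
  have hmem : ⁅v, v'⁆ ∈ ⁅(Qgrp E.herm e f P.frame.ee).comap E.π, (Qgrp E.herm e f P.frame.ee).comap E.π⁆ :=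
    Subgroup.commutator_mem_commutator hv hv'
  have key : ∀ {N : Subgroup Γ}, IsComp E e f P.frame.ee N → ∀ w ∈ N, E.π w = E.π z → ⁅v, v'⁆ = w :=
    fun hN w hw hwz => inv_mul_eq_one.1 (hN.inj _ (mul_mem (inv_mem (hN.der hmem)) hw)
      (by rw [map_mul, map_inv, ← hπ, hwz, inv_mul_cancel]))
  exact (key hM z hz rfl).symm.trans (key hM' z' hz' he.symm)

/-- The difference of two complements at a vector. -/
noncomputable def dif (a : Fin m → F) : Γ := (P.cel hM' a)⁻¹ * P.cel hM a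

theorem π_dif (a : Fin m → F) : E.π (P.dif hM hM' a) = 1 := by
  rw [dif, map_mul, map_inv, (P.cel_spec hM' a).2, (P.cel_spec hM a).2, inv_mul_cancel]

theorem dif_eq {a : Fin m → F} {d : F} (hd : d + σ d = -B (emb u a) (emb u a)) {x y : Γ} (hx : x ∈ M)
    (hy : y ∈ M') (hxπ : E.π x = qel E.herm e (emb u a) d) (hyπ : E.π y = qel E.herm e (emb u a) d) :
    y⁻¹ * x = P.dif hM hM' a := by
  obtain ⟨h1, h2⟩ := P.cel_spec hM a
  obtain ⟨h1', h2'⟩ := P.cel_spec hM' a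
  set c := P.cel hM a with hc
  set c' := P.cel hM' a with hc'
  have key : ∀ {z w : Γ}, E.π z = qel E.herm e (emb u a) (P.dd a) → E.π w = qel E.herm e (emb u a) d →
      z⁻¹ * w ∈ P.Zt := fun {z w} hz hw => by
    have hL : z⁻¹ * P.L a ∈ P.Zt := by
      refine ⟨0, by simp, ?_⟩
      rw [map_mul, map_inv, hz, P.π_L, inv_mul_cancel, qel_zero]
    have := mul_mem hL (P.L_diff hd hw)
    rwa [show z⁻¹ * P.L a * ((P.L a)⁻¹ * w) = z⁻¹ * w by group] at this
  have hzw : c⁻¹ * x = c'⁻¹ * y := P.eq_of_mem_Zt hM hM' (mul_mem (inv_mem h1) hx) (mul_mem (inv_mem h1') hy)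
    (key h2 hxπ) (by rw [map_mul, map_inv, map_mul, map_inv, h2, h2', hxπ, hyπ])
  show y⁻¹ * x = c'⁻¹ * c
  have hk : E.π (c'⁻¹ * c) = 1 := by rw [map_mul, map_inv, h2, h2', inv_mul_cancel]
  calc y⁻¹ * x = (c'⁻¹ * y)⁻¹ * ((c'⁻¹ * c) * (c⁻¹ * x)) := by group
    _ = (c'⁻¹ * y)⁻¹ * ((c⁻¹ * x) * (c'⁻¹ * c)) := by rw [← (E.ker_comm hk (c⁻¹ * x)).eq]
    _ = _ := by rw [hzw]; group

theorem dif_add (a b : Fin m → F) : P.dif hM hM' (a + b) = P.dif hM hM' a * P.dif hM hM' b := by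
  have ca := adm_of_mem E.herm P.frame.ee (P.emb_mem_W a) (P.dd_spec a)
  have cb := adm_of_mem E.herm P.frame.ee (P.emb_mem_W b) (P.dd_spec b)
  have hd := (ca.add E.herm cb).2.2
  rw [← map_add (emb u)] at hd
  obtain ⟨h1, h2⟩ := P.cel_spec hM a
  obtain ⟨h3, h4⟩ := P.cel_spec hM b
  obtain ⟨h1', h2'⟩ := P.cel_spec hM' a
  obtain ⟨h3', h4'⟩ := P.cel_spec hM' b
  rw [← P.dif_eq hM hM' hd (mul_mem h1 h3) (mul_mem h1' h3')
    (by rw [map_mul, h2, h4, qel_mul E.herm ca cb, map_add])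
    (by rw [map_mul, h2', h4', qel_mul E.herm ca cb, map_add])]
  have hk : E.π ((P.cel hM' a)⁻¹ * P.cel hM a) = 1 := P.π_dif hM hM' a
  calc (P.cel hM' a * P.cel hM' b)⁻¹ * (P.cel hM a * P.cel hM b)
      = (P.cel hM' b)⁻¹ * (((P.cel hM' a)⁻¹ * P.cel hM a) * P.cel hM b) := by group
    _ = (P.cel hM' b)⁻¹ * (P.cel hM b * ((P.cel hM' a)⁻¹ * P.cel hM a)) := by rw [(E.ker_comm hk _).eq]
    _ = P.dif hM hM' b * P.dif hM hM' a := by rw [dif, dif]; group
    _ = _ := (E.ker_comm (P.π_dif hM hM' a) _).eq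

theorem dif_zero : P.dif hM hM' 0 = 1 := by
  have := P.dif_add hM hM' 0 0
  rw [add_zero] at this
  exact left_eq_mul.1 this

theorem dif_trans (a : Fin m → F) : P.dif hM hM'' a = P.dif hM hM' a * P.dif hM' hM'' a := by
  rw [(E.ker_comm (P.π_dif hM' hM'' a) _).eq, dif, dif, dif]
  group

theorem mem_of_dif {x : Γ} (hx : x ∈ M) :
    ∃ y ∈ M', ∃ a : Fin m → F, x = y * P.dif hM hM' a := by
  obtain ⟨b, hb, d, hd, hxπ⟩ := hM.le hx
  obtain ⟨a, rfl⟩ := P.exists_coord hb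
  obtain ⟨y, hy, hyπ⟩ := hM'.surj _ hb d hd
  exact ⟨y, hy, a, by rw [← P.dif_eq hM hM' hd hx hy hxπ hyπ, mul_inv_cancel_left]⟩

end PData

end Cfsg.Agent.PSUMult
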