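import Cfsg.Agent.PSUMult.SixTwo.Codes

/-!
The meaning of the codes, and the solutions of the linear system in a group of exponent two.
-/

set_option autoImplicit false
set_option maxRecDepth 100000

namespace Cfsg.Agent.PSUMult.SixTwo

open Cfsg.Agent.Classical Cfsg.Agent.Classical.Herm

section Eval

variable {K : Type*} [CommGroup K] (X : ℕ → K)

/-- The product of the first `n` variables selected by a mask. -/
def ev (n m : ℕ) : K := ∏ i ∈ Finset.range n, if m.testBit i then X i else 1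

theorem ev_zero (n : ℕ) : ev X n 0 = 1 := by simp [ev]

theorem ev_xor (h2 : ∀ i, X i * X i = 1) (n a b : ℕ) : ev X n (Nat.xor a b) = ev X n a * ev X n b := by
  rw [ev, ev, ev, ← Finset.prod_mul_distrib]
  refine Finset.prod_congr rfl fun i _ => ?_
  show (if (a ^^^ b).testBit i = true then X i else 1) = _
  rw [Nat.testBit_xor]
  cases a.testBit i <;> cases b.testBit i <;> simp [h2]

theorem ev_single {n v : ℕ} (hv : v < n) : ev X n (Nat.shiftLeft 1 v) = X v := by
  rw [ev, Finset.prod_eq_single v]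
  · show (if (1 <<< v).testBit v = true then X v else 1) = _
    simp
  · intro i _ hi
    show (if (1 <<< v).testBit i = true then X i else 1) = _
    rw [Nat.one_shiftLeft, Nat.testBit_two_pow, decide_eq_false (Ne.symm hi)]
    simp
  · exact fun h => absurd (Finset.mem_range.2 hv) h

theorem ev_shift {a : ℕ} (ha : a < 256) {b : ℕ} (hb : b < 40) :
    ev X 320 (Nat.shiftLeft a (8 * b)) = ev (fun k => X (8 * b + k)) 8 a := by
  have hbit : ∀ i, (a <<< (8 * b)).testBit i = true → 8 * b ≤ i ∧ i < 8 * b + 8 := fun i hi => by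
    rw [Nat.testBit_shiftLeft, Bool.and_eq_true, decide_eq_true_eq] at hi
    refine ⟨hi.1, ?_⟩
    by_contra hc
    have := Nat.testBit_lt_two_pow (i := i - 8 * b) (lt_of_lt_of_le ha
      (show 256 ≤ 2 ^ (i - 8 * b) by
        calc 256 = 2 ^ 8 := by norm_num
          _ ≤ _ := Nat.pow_le_pow_right (by norm_num) (by omega)))
    rw [this] at hi
    exact Bool.false_ne_true hi.2
  show (∏ i ∈ Finset.range 320, if (a <<< (8 * b)).testBit i then X i else 1) = _
  rw [← Finset.prod_subset (s₁ := Finset.Ico (8 * b) (8 * b + 8)) (fun i hi => by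
      simp only [Finset.mem_Ico] at hi; simp only [Finset.mem_range]; omega)
    (fun i _ hi => if_neg fun h => hi (Finset.mem_Ico.2 (hbit i h))),
    Finset.prod_Ico_eq_prod_range, ev, Nat.add_sub_cancel_left]
  refine Finset.prod_congr rfl fun k _ => ?_
  rw [Nat.testBit_shiftLeft, decide_eq_true (Nat.le_add_right (8 * b) k), Bool.true_and,
    Nat.add_sub_cancel_left]

theorem ev_comb (h2 : ∀ i, X i * X i = 1) : ∀ (l : List ℕ), (∀ m ∈ l, ev X 320 m = 1) → ∀ c,
    ev X 320 (comb l c) = 1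
  | [], _, c => ev_zero X 320
  | m :: l, h, c => by
    show ev X 320 (cond _ (Nat.xor m (comb l _)) (comb l _)) = 1
    have hl := ev_comb h2 l (fun x hx => h x (List.mem_cons_of_mem _ hx)) (Nat.shiftRight c 1)
    cases Nat.beq (Nat.land c 1) 1
    · exact hl
    · rw [cond_true, ev_xor X h2, h m (List.mem_cons_self ..), hl, one_mul]

/-- Solutions of the system are generated by the two seeds. -/
theorem mem_seeds (h2 : ∀ i, X i * X i = 1) (hrow : ∀ t ∈ relRows, ev X 320 (rowMask t) = 1) {v : ℕ}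
    (hv : v < 320) : X v ∈ Subgroup.closure ({X 14, X 15} : Set K) := by
  have h := ev_comb X h2 masks (fun m hm => by
    obtain ⟨t, ht, rfl⟩ := List.mem_map.1 hm
    exact hrow t ht) (combos.getD v (0, 0)).1
  rw [combos_ok v hv, ev_xor X h2, ev_single X hv] at h
  have he : ev X 320 (seedMask (combos.getD v (0, 0)).2) ∈ Subgroup.closure ({X 14, X 15} : Set K) := by
    rw [seedMask, ev_xor X h2]
    refine mul_mem ?_ ?_
    · cases Nat.beq (Nat.land (combos.getD v (0, 0)).2 1) 1
      · simp [ev_zero]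
      · rw [cond_true, ev_single X (by norm_num)]
        exact Subgroup.subset_closure (by simp)
    · cases Nat.beq (Nat.shiftRight (combos.getD v (0, 0)).2 1) 1
      · simp [ev_zero]
      · rw [cond_true, ev_single X (by norm_num)]
        exact Subgroup.subset_closure (by simp)
  rw [eq_inv_of_mul_eq_one_left h]
  exact inv_mem he

end Eval

section Decode

variable {F : Type*} [Field F] {σ : F →+* F} {ω : F}

/-- The element with a given digit. -/
def dec (ω : F) : ℕ → F
  | 0 => 0
  | 1 => 1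
  | 2 => ω
  | _ => ω + 1

/-- The vector with a given code. -/
noncomputable def decV (ω : F) (c : ℕ) : Fin 4 → F := fun k => dec ω (dig c k)

/-- The field has four elements. -/
structure Four (σ : F →+* F) (ω : F) : Prop where
  two : (2 : F) = 0
  root : ω * ω = ω + 1
  frob : ∀ x, σ x = x * x
  ex : ∀ x : F, x = 0 ∨ x = 1 ∨ x = ω ∨ x = ω + 1

theorem dig_lt (c k : ℕ) : dig c k < 4 := Nat.lt_succ_of_le Nat.and_le_right

namespace Four

variable (h : Four σ ω)
include h

theorem ne_zero : ω ≠ 0 := fun h0 => by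
  have := h.root
  rw [h0, mul_zero, zero_add] at this
  exact one_ne_zero this.symm

theorem ne_one : ω ≠ 1 := fun h1 => by
  have := h.root
  rw [h1, one_mul] at this
  exact one_ne_zero (α := F) (by linear_combination -this)

theorem add_one_ne : ω + 1 ≠ 0 := by
  rw [← h.root]
  exact mul_ne_zero h.ne_zero h.ne_zero

theorem dec_eq_zero {x : ℕ} (hx : x < 4) : dec ω x = 0 ↔ x = 0 := by
  interval_cases x <;> simp [dec, h.ne_zero, h.add_one_ne]

theorem dec_xor {x y : ℕ} (hx : x < 4) (hy : y < 4) : dec ω (Nat.xor x y) = dec ω x + dec ω y := by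
  have e2 := h.two
  interval_cases x <;> interval_cases y <;> simp [dec, Nat.xor, Nat.bitwise] <;>
    first | rfl | ring1 | linear_combination e2 | linear_combination (-1 : F) * e2 | linear_combination ω * e2 |
      linear_combination -ω * e2 | linear_combination (-(ω + 1)) * e2 |
      linear_combination (ω + 1) * e2

theorem dec_mul {x y : ℕ} (hx : x < 4) (hy : y < 4) : dec ω (mulD x y) = dec ω x * dec ω y := by
  have e2 := h.two
  have er := h.root
  have m22 : mulD 2 2 = 3 := by decide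
  have m23 : mulD 2 3 = 1 := by decide
  have m32 : mulD 3 2 = 1 := by decide
  have m33 : mulD 3 3 = 2 := by decide
  have m0 : ∀ z < 4, mulD 0 z = 0 ∧ mulD z 0 = 0 ∧ mulD 1 z = z ∧ mulD z 1 = z := by decide
  have p1 : ω * (ω + 1) = 1 := by linear_combination er + ω * e2
  have p2 : (ω + 1) * (ω + 1) = ω := by linear_combination er + (ω + 1) * e2
  have p1' : (ω + 1) * ω = 1 := by rw [mul_comm]; exact p1
  interval_cases x <;> interval_cases y <;> (try simp only [m22, m23, m32, m33, (m0 0 (by norm_num)).1, (m0 1 (by norm_num)).1,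
    (m0 2 (by norm_num)).1, (m0 3 (by norm_num)).1, (m0 1 (by norm_num)).2.1, (m0 2 (by norm_num)).2.1,
    (m0 3 (by norm_num)).2.1, (m0 1 (by norm_num)).2.2.1, (m0 2 (by norm_num)).2.2.1,
    (m0 3 (by norm_num)).2.2.1, (m0 2 (by norm_num)).2.2.2, (m0 3 (by norm_num)).2.2.2]) <;>
    first
    | (simp [dec]; done)
    | (simp only [dec]; first | exact er.symm | exact p1.symm | exact p1'.symm | exact p2.symm)

theorem dec_sq {x : ℕ} (hx : x < 4) : dec ω (sqD x) = σ (dec ω x) := by
  have e2 := h.two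
  have er := h.root
  rw [h.frob]
  have s2 : sqD 2 = 3 := by decide
  have s3 : sqD 3 = 2 := by decide
  have s0 : sqD 0 = 0 := by decide
  have s1 : sqD 1 = 1 := by decide
  have p2 : (ω + 1) * (ω + 1) = ω := by linear_combination er + (ω + 1) * e2
  interval_cases x <;> (try simp only [s0, s1, s2, s3]) <;>
    first | (simp [dec]; done) | (simp only [dec]; first | exact er.symm | exact p2.symm)

theorem mulD_lt {x y : ℕ} (hx : x < 4) (hy : y < 4) : mulD x y < 4 := by
  interval_cases x <;> interval_cases y <;> decide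

theorem decV_xor {a b : ℕ} : decV ω (Nat.xor a b) = decV ω a + decV ω b := by
  funext k
  show dec ω _ = dec ω _ + dec ω _
  rw [← h.dec_xor (dig_lt _ _) (dig_lt _ _)]
  congr 1
  show (a ^^^ b) >>> (2 * (k : ℕ)) &&& 3 = (a >>> (2 * (k : ℕ)) &&& 3) ^^^ (b >>> (2 * (k : ℕ)) &&& 3)
  rw [Nat.shiftRight_xor_distrib, Nat.and_xor_distrib_right]

theorem hermB_decV {u v : ℕ} : hermB 4 σ (decV ω u) (decV ω v) = dec ω (hC u v) := by
  have hs : ∀ x, x < 4 → sqD x < 4 := fun x hx => by interval_cases x <;> decide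
  have hl : ∀ k, mulD (sqD (dig u k)) (dig v k) < 4 := fun k => h.mulD_lt (hs _ (dig_lt _ _)) (dig_lt _ _)
  have hx : ∀ {x y : ℕ}, x < 4 → y < 4 → Nat.xor x y < 4 := fun {x y} hx hy =>
    Nat.xor_lt_two_pow (n := 2) hx hy
  rw [hermB_apply, Fin.sum_univ_four, hC, h.dec_xor (hx (hl 0) (hl 1)) (hx (hl 2) (hl 3)),
    h.dec_xor (hl 0) (hl 1), h.dec_xor (hl 2) (hl 3)]
  simp only [decV, h.dec_mul (hs _ (dig_lt _ _)) (dig_lt _ _), h.dec_sq (dig_lt _ _)]
  show _ + _ + _ + _ = _
  ring!

theorem surj (a : Fin 4 → F) : ∃ c < 256, decV ω c = a := by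
  have hd : ∀ x : F, ∃ n < 4, dec ω n = x := fun x => by
    rcases h.ex x with rfl | rfl | rfl | rfl
    exacts [⟨0, by norm_num, rfl⟩, ⟨1, by norm_num, rfl⟩, ⟨2, by norm_num, rfl⟩, ⟨3, by norm_num, rfl⟩]
  obtain ⟨a0, l0, e0⟩ := hd (a 0)
  obtain ⟨a1, l1, e1⟩ := hd (a 1)
  obtain ⟨a2, l2, e2⟩ := hd (a 2)
  obtain ⟨a3, l3, e3⟩ := hd (a 3)
  refine ⟨a0 + 4 * a1 + 16 * a2 + 64 * a3, by omega, ?_⟩
  have hdig : ∀ c k : ℕ, dig c k = c / 2 ^ (2 * k) % 4 := fun c k => by
    show c >>> (2 * k) &&& 3 = _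
    rw [Nat.shiftRight_eq_div_pow, show (3 : ℕ) = 2 ^ 2 - 1 by norm_num, Nat.and_two_pow_sub_one_eq_mod]
  funext k
  fin_cases k <;> simp only [decV, hdig] <;> norm_num
  all_goals first
    | rfl
    | skip
  · rw [show (a0 + 4 * a1 + 16 * a2 + 64 * a3) % 4 = a0 by omega, e0]
  · rw [show (a0 + 4 * a1 + 16 * a2 + 64 * a3) / 4 % 4 = a1 by omega, e1]
  · rw [show (a0 + 4 * a1 + 16 * a2 + 64 * a3) / 16 % 4 = a2 by omega, e2]; rfl
  · rw [show (a0 + 4 * a1 + 16 * a2 + 64 * a3) / 64 % 4 = a3 by omega, e3]; rfl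

theorem decV_zero : decV ω 0 = 0 := by
  funext k
  simp [decV, dig, dec]

theorem dec_inj {x y : ℕ} (hx : x < 4) (hy : y < 4) (he : dec ω x = dec ω y) : x = y := by
  have h1 := h.ne_zero
  have h2 := h.ne_one
  have h3 := h.add_one_ne
  have h4 : ω + 1 ≠ 1 := fun e => h1 (add_eq_right.1 e)
  have h5 : ω + 1 ≠ ω := fun e => one_ne_zero (add_eq_left.1 e)
  interval_cases x <;> interval_cases y <;> simp [dec] at he ⊢ <;>
    first | omega | exact h1 he | exact h1 he.symm | exact h2 he | exact h2 he.symm | exact h3 he |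
      exact h3 he.symm

theorem decV_smulC {s c : ℕ} (hs : s < 4) : decV ω (smulC s c) = dec ω s • decV ω c := by
  have hdig : ∀ c k : ℕ, dig c k = c / 2 ^ (2 * k) % 4 := fun c k => by
    show c >>> (2 * k) &&& 3 = _
    rw [Nat.shiftRight_eq_div_pow, show (3 : ℕ) = 2 ^ 2 - 1 by norm_num, Nat.and_two_pow_sub_one_eq_mod]
  have hl : ∀ k, mulD s (dig c k) < 4 := fun k => h.mulD_lt hs (dig_lt _ _)
  funext k
  rw [Pi.smul_apply, smul_eq_mul, decV, decV, ← h.dec_mul hs (dig_lt _ _)]
  congr 1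
  have := hl 0
  have := hl 1
  have := hl 2
  have := hl 3
  rw [hdig]
  fin_cases k <;> simp only [smulC] <;> norm_num
  all_goals
    generalize mulD s (dig c 0) = g0, mulD s (dig c 1) = g1, mulD s (dig c 2) = g2, mulD s (dig c 3) = g3 at *
    omega

end Four

end Decode

end Cfsg.Agent.PSUMult.SixTwo
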