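import Cfsg.Agent.PSUMult.SixTwo.Differ
import Cfsg.Agent.PSUMult.SixTwo.Solve

/-!
In dimension six over the field with four elements the complements attached to the forty frames differ by
homomorphisms into a subgroup generated by two elements of order at most two.
-/

set_option autoImplicit false
set_option linter.unusedSectionVars false
set_option maxRecDepth 100000

namespace Cfsg.Agent.PSUMult.SixTwo

open Module Cfsg.Agent.Classical Cfsg.Agent.Classical.Herm
open scoped commutatorElement

/-- The index, brought below forty. -/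
def cl (b : ℕ) : ℕ := if b < 40 then b else 0

theorem cl_lt (b : ℕ) : cl b < 40 := by unfold cl; split_ifs with h; exacts [h, by norm_num]

variable {F V : Type*} [Field F] [Fintype F] [AddCommGroup V] [Module F V] [FiniteDimensional F V]
  {σ : F →+* F} {B : V →ₛₗ[σ] V →ₗ[F] F} {Γ : Type*} [Group Γ] [Finite Γ]
variable {E : Ext B Γ} {e f : V} {u : Fin 4 → V} (P : PData E 2 2 e f u)
include P

theorem exists_four : ∃ ω, Four σ ω := by
  classical
  have hcard : Fintype.card F = 4 := by rw [P.cardF]; norm_num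
  have := P.char
  have h2 : (2 : F) = 0 := CharTwo.two_eq_zero
  obtain ⟨ω, hω1, hω⟩ := exists_norm_one_ne_one E.herm
  rw [P.pow] at hω
  have hω0 : ω ≠ 0 := left_ne_zero_of_mul_eq_one hω
  have h3 : (ω + 1) * (ω * ω + ω + 1) = 0 := by linear_combination hω + (ω * ω + ω + 1) * h2
  have hne : ω + 1 ≠ 0 := fun h => hω1 (by linear_combination h - h2)
  have hr : ω * ω = ω + 1 := by
    have := (mul_eq_zero.1 h3).resolve_left hne
    linear_combination this - (ω + 1) * h2
  refine ⟨ω, ⟨h2, hr, fun x => by rw [P.pow, pow_two], fun x => ?_⟩⟩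
  have hd : ({0, 1, ω, ω + 1} : Finset F) = Finset.univ := by
    refine Finset.eq_univ_of_card _ ?_
    rw [hcard, Finset.card_eq_of_equiv_fin]
    · exact (Finset.equivFin _).trans (finCongr (by
        rw [Finset.card_insert_of_notMem, Finset.card_insert_of_notMem, Finset.card_pair]
        · intro h; exact one_ne_zero (α := F) (by linear_combination -h)
        · simp only [Finset.mem_insert, Finset.mem_singleton, not_or]
          exact ⟨Ne.symm hω1, fun h => hω0 (by linear_combination -h)⟩
        · simp only [Finset.mem_insert, Finset.mem_singleton, not_or]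
          exact ⟨zero_ne_one, Ne.symm hω0, Ne.symm hne⟩))
  have := hd.ge (Finset.mem_univ x)
  simpa using this

/-- The field element. -/
noncomputable def om : F := (exists_four P).choose

theorem four : Four σ (om P) := (exists_four P).choose_spec

theorem sigma_om : σ (om P) = om P + 1 := by rw [(four P).frob, (four P).root]

/-- The vectors of a frame. -/
noncomputable def fb (b : ℕ) : Fin 4 → Fin 4 → F := fun i => decV (om P) (frVec b i)

theorem fb_on {b : ℕ} (hb : b < 40) : Herm.IsON (hermB 4 σ) (fb P b) := fun i j => by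
  rw [fb, fb, (four P).hermB_decV, (frames_on b hb i i.2 j j.2).2]
  by_cases h : i = j
  · rw [if_pos (congrArg Fin.val h), if_pos h]; rfl
  · rw [if_neg (fun h' => h (Fin.ext h')), if_neg h]; rfl

/-- The complement of a frame. -/
noncomputable def Mf (b : ℕ) : Subgroup Γ :=
  ((P.frame_of_on (fb_on P (cl_lt b))).exists_comp).choose

theorem Mf_comp (b : ℕ) : IsComp E e f P.frame.ee (Mf P b) :=
  ((P.frame_of_on (fb_on P (cl_lt b))).exists_comp).choose_spec.1

theorem Mf_inv (b : ℕ) (s : Tor σ 4) :
    Inv (Mf P b) ((P.frame_of_on (fb_on P (cl_lt b))).te s) :=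
  ((P.frame_of_on (fb_on P (cl_lt b))).exists_comp).choose_spec.2 s

/-- The difference of the complement of a frame and that of the first one. -/
noncomputable def phi (b : ℕ) (a : Fin 4 → F) : Γ := P.dif (Mf_comp P b) (Mf_comp P 0) a

/-- An element fixing the decomposition at a vector is given by the torus of a frame through it. -/
theorem inv_point {b : ℕ} (hb : b < 40) (i : Fin 4) {g : Γ} (he : E.act g e = om P • e)
    (hf : E.act g f = (σ (om P))⁻¹ • f) (hv : E.act g (emb u (fb P b i)) = om P • emb u (fb P b i))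
    (hperp : ∀ c, hermB 4 σ (fb P b i) c = 0 → E.act g (emb u c) = emb u c) :
    Inv (Mf P b) g := by
  classical
  have hc : cl b = b := if_pos hb
  have hω := four P
  let x : N1' σ := ⟨Units.mk0 (om P) hω.ne_zero, Units.ext (by
    show om P * σ (om P) = 1
    rw [sigma_om P, mul_add, hω.root, mul_one]
    linear_combination om P * hω.two)⟩
  let η : Fin 4 → N1' σ := fun k => if k = i then x else 1
  have hs : ((Units.mk0 (om P) hω.ne_zero, η) : Fˣ × (Fin 4 → N1' σ)) ∈ Tor σ 4 := by
    show ∏ k, ((η k : Fˣ) : F) = σ (om P) / om P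
    rw [Finset.prod_eq_single i (fun k _ hk => by simp [η, hk]) (by simp), hω.frob,
      mul_div_cancel_right₀ _ hω.ne_zero]
    simp [η, x]
  have P' := P.frame_of_on (fb_on P (cl_lt b))
  obtain ⟨t1, t2, t3⟩ := P'.te_spec ⟨_, hs⟩
  have heq : E.π g = E.π (P'.te ⟨_, hs⟩) := by
    refine P'.π_ext_frame (by rw [he, t1]; rfl) (by rw [hf, t2]; rfl) fun k => ?_
    rw [t3 k]
    show E.act g (emb u (fb P (cl b) k)) = _ • emb u (fb P (cl b) k)
    rw [hc]
    by_cases hk : k = i
    · subst hk
      rw [hv]; simp [η, x]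
    · rw [hperp _ (by rw [fb_on P hb, if_neg (Ne.symm hk)])]
      simp [η, hk]
  intro y hy
  rw [E.conj_indep heq]
  exact Mf_inv P b _ y hy

/-- Frames sharing a vector agree on its orthogonal. -/
theorem phi_shared {b b' : ℕ} (hb : b < 40) (hb' : b' < 40) (i j : Fin 4) (hv : fb P b i = fb P b' j)
    {a : Fin 4 → F} (ha : hermB 4 σ (fb P b i) a = 0) : phi P b a = phi P b' a := by
  classical
  have hω := four P
  have P' := P.frame_of_on (fb_on P hb)
  let x : N1' σ := ⟨Units.mk0 (om P) hω.ne_zero, Units.ext (by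
    show om P * σ (om P) = 1
    rw [sigma_om P, mul_add, hω.root, mul_one]
    linear_combination om P * hω.two)⟩
  let η : Fin 4 → N1' σ := fun k => if k = i then x else 1
  have hs : ((Units.mk0 (om P) hω.ne_zero, η) : Fˣ × (Fin 4 → N1' σ)) ∈ Tor σ 4 := by
    show ∏ k, ((η k : Fˣ) : F) = σ (om P) / om P
    rw [Finset.prod_eq_single i (fun k _ hk => by simp [η, hk]) (by simp), hω.frob,
      mul_div_cancel_right₀ _ hω.ne_zero]
    simp [η, x]
  obtain ⟨t1, t2, t3⟩ := P'.te_spec ⟨_, hs⟩
  set g := P'.te ⟨_, hs⟩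
  have hgi : E.act g (emb u (fb P b i)) = om P • emb u (fb P b i) := by
    rw [t3 i]; simp [η, x]
  have hperp : ∀ c, hermB 4 σ (fb P b i) c = 0 → E.act g (emb u c) = emb u c := by
    intro c hc
    have hspan := P'.frame.span _ (P.emb_mem_W c)
    simp only [form_emb_emb E.herm P.frame.on] at hspan
    rw [hspan, map_sum]
    refine Finset.sum_congr rfl fun k _ => ?_
    rw [map_smul, t3 k]
    by_cases hk : k = i
    · subst hk; rw [hc, zero_smul, zero_smul]
    · simp [η, hk]
  have h1 : Inv (Mf P b) g := inv_point P hb i t1 t2 hgi hperp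
  have h2 : Inv (Mf P b') g := inv_point P hb' j t1 t2 (hv ▸ hgi) (hv ▸ hperp)
  -- the commutator with the element lies in both complements
  set a' : Fin 4 → F := (om P)⁻¹ • a with ha'
  obtain ⟨y, hy, hyπ⟩ := (Mf_comp P b).surj (emb u a') (P.emb_mem_W a') (P.dd a') (P.dd_spec a')
  obtain ⟨y', hy', hyπ'⟩ := (Mf_comp P b').surj (emb u a') (P.emb_mem_W a') (P.dd a') (P.dd_spec a')
  set w := g * y * g⁻¹ * y⁻¹ with hw
  have hwb : w ∈ Mf P b := mul_mem (h1 y hy) (inv_mem hy)
  have hwb' : w ∈ Mf P b' := by
    have hz : E.π (y⁻¹ * y') = 1 := by rw [map_mul, map_inv, hyπ, hyπ', inv_mul_cancel]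
    have : g * y' * g⁻¹ * y'⁻¹ = w := by
      calc g * y' * g⁻¹ * y'⁻¹ = g * y * ((y⁻¹ * y') * g⁻¹) * y'⁻¹ := by group
        _ = g * y * (g⁻¹ * (y⁻¹ * y')) * y'⁻¹ := by rw [(E.ker_comm hz g⁻¹).eq]
        _ = w := by rw [hw]; group
    exact this ▸ mul_mem (h2 y' hy') (inv_mem hy')
  have c1 := adm_of_mem E.herm P.frame.ee (P.emb_mem_W a') (P.dd_spec a')
  have hga : σ (om P) • E.act g (emb u a') = emb u (σ (om P) • a') := by
    rw [hperp a' (by rw [ha', map_smul, ha, smul_zero]), ← map_smul (emb u)]
  have c2 : Adm B e (emb u (σ (om P) • a')) (σ (om P) * om P * P.dd a') := by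
    refine adm_of_mem E.herm P.frame.ee (P.emb_mem_W _) ?_
    rw [← hga, smul_self E.herm, E.act_iso, map_mul, map_mul, E.herm.invol]
    linear_combination (σ (om P) * om P) * P.dd_spec a'
  have hwπ : E.π w = qel E.herm e (emb u (σ (om P) • a') + -emb u a')
      (σ (om P) * om P * P.dd a' + σ (P.dd a') - B (emb u (σ (om P) • a')) (-emb u a')) := by
    rw [hw, map_mul, map_inv, P.π_conj (l := om P) t1 hω.ne_zero c1 hyπ, hyπ, qel_inv E.herm c1,
      hga, qel_mul E.herm c2 (c1.neg E.herm)]
  have hA : emb u (σ (om P) • a') + -emb u a' = emb u a := by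
    rw [← map_neg, ← map_add, ← neg_one_smul F a', ← add_smul, sigma_om P, ha', smul_smul,
      show (om P + 1 + -1) * (om P)⁻¹ = 1 by
        rw [add_neg_cancel_right, mul_inv_cancel₀ hω.ne_zero], one_smul]
  have hd := (c2.add E.herm (c1.neg E.herm)).2.2
  rw [hA] at hd hwπ
  have h0 : P.dif (Mf_comp P b) (Mf_comp P b') a = 1 := by
    rw [← P.dif_eq _ _ hd hwb hwb' hwπ hwπ, inv_mul_cancel]
  rw [phi, phi, P.dif_trans (Mf_comp P b) (Mf_comp P b') (Mf_comp P 0), h0, one_mul]

theorem phi_add (b : ℕ) (a c : Fin 4 → F) : phi P b (a + c) = phi P b a * phi P b c := P.dif_add _ _ a c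

theorem phi_ker (b : ℕ) (a : Fin 4 → F) : E.π (phi P b a) = 1 := P.π_dif _ _ a

theorem phi_sq (b : ℕ) (a : Fin 4 → F) : phi P b a * phi P b a = 1 := by
  rw [← phi_add, ← P.dif_zero (Mf_comp P b) (Mf_comp P 0), phi]
  congr 1
  funext k
  show a k + a k = 0
  linear_combination a k * (four P).two

theorem phi_first (a : Fin 4 → F) : phi P 0 a = 1 := inv_mul_cancel _

/-- The variables of the system. -/
noncomputable def var (i : ℕ) : E.π.ker :=
  if i < 320 then ⟨phi P (i / 8) (decV (om P) (Nat.shiftLeft 1 (i % 8))),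
    MonoidHom.mem_ker.2 (phi_ker P _ _)⟩ else 1

/-- Every difference lies in the subgroup of two of them. -/
theorem phi_mem {b : ℕ} (hb : b < 40) (a : Fin 4 → F) :
    phi P b a ∈ Subgroup.closure ({(var P 14 : Γ), (var P 15 : Γ)} : Set Γ) := by
  classical
  let _ : CommGroup E.π.ker :=
    { (inferInstance : Group E.π.ker) with mul_comm := fun x y => Subtype.ext (E.ker_comm y.2 x.1).eq }
  have hω := four P
  let ψ : ℕ → ℕ → E.π.ker := fun b c => ⟨phi P b (decV (om P) c), MonoidHom.mem_ker.2 (phi_ker P _ _)⟩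
  have hsq : ∀ i, var P i * var P i = 1 := fun i => by
    unfold var
    split_ifs
    · exact Subtype.ext (phi_sq P _ _)
    · exact mul_one 1
  have hψ : ∀ b c c', ψ b (Nat.xor c c') = ψ b c * ψ b c' := fun b c c' => Subtype.ext (by
    show phi P b _ = phi P b _ * phi P b _
    rw [hω.decV_xor, phi_add])
  have hψ0 : ∀ b, ψ b 0 = 1 := fun b => Subtype.ext (by
    show phi P b _ = 1
    rw [hω.decV_zero]; exact P.dif_zero _ _)
  have hev : ∀ {b c : ℕ}, b < 40 → c < 256 → ev (var P) 320 (Nat.shiftLeft c (8 * b)) = ψ b c := by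
    intro b c hb hc
    rw [ev_shift _ hc hb]
    have key : ∀ n ≤ 8, ev (fun k => var P (8 * b + k)) n c = ψ b (c % 2 ^ n) := by
      intro n hn
      induction n with
      | zero => rw [pow_zero, Nat.mod_one, hψ0]; simp [ev]
      | succ n ih =>
        rw [ev, Finset.prod_range_succ, ← ev, ih (by omega)]
        have hvar : var P (8 * b + n) = ψ b (Nat.shiftLeft 1 n) := by
          rw [var, if_pos (by omega)]
          exact Subtype.ext (by
            show phi P _ _ = phi P _ _
            rw [show (8 * b + n) / 8 = b by omega, show (8 * b + n) % 8 = n by omega])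
        have hbit : c % 2 ^ (n + 1) = Nat.xor (c % 2 ^ n) (if c.testBit n then Nat.shiftLeft 1 n else 0) := by
          refine Nat.eq_of_testBit_eq fun k => ?_
          show _ = ((c % 2 ^ n) ^^^ _).testBit k
          rw [Nat.testBit_xor, Nat.testBit_mod_two_pow, Nat.testBit_mod_two_pow]
          rcases lt_trichotomy k n with h | rfl | h
          · split_ifs with hcn
            · show _ = (_ ^^ (1 <<< n).testBit k)
              rw [Nat.one_shiftLeft, Nat.testBit_two_pow, decide_eq_false (by omega : n ≠ k)]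
              simp [h, show k < n + 1 by omega]
            · simp [h, show k < n + 1 by omega]
          · split_ifs with hcn
            · show _ = (_ ^^ (1 <<< k).testBit k)
              simp [hcn]
            · simp [hcn]
          · split_ifs with hcn
            · show _ = (_ ^^ (1 <<< n).testBit k)
              rw [Nat.one_shiftLeft, Nat.testBit_two_pow, decide_eq_false (by omega : n ≠ k)]
              simp [show ¬ k < n by omega, show ¬ k < n + 1 by omega]
            · simp [show ¬ k < n by omega, show ¬ k < n + 1 by omega]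
        rw [hbit, hψ]
        split_ifs
        · rw [hvar]
        · rw [hψ0]
    rw [key 8 le_rfl, Nat.mod_eq_of_lt (show c < 2 ^ 8 by omega)]
  have hrow : ∀ t ∈ relRows, ev (var P) 320 (rowMask t) = 1 := by
    intro t ht
    rcases rows_ok t ht with ⟨h1, h2, h3⟩ | ⟨h1, h2, h3, h4, h5, h6, h7, h8⟩
    · rw [rowMask, h1, show Nat.beq 1 0 = false from rfl, cond_false, h2, hev (by norm_num) h3]
      exact Subtype.ext (phi_first P _)
    · rw [rowMask, h1, show Nat.beq 0 0 = true from rfl, cond_true, ev_xor _ hsq, hev h2 h6, hev h4 h6]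
      have hsh : ψ t.1 t.2.2.2.2.1 = ψ t.2.2.1 t.2.2.2.2.1 := Subtype.ext (phi_shared P h2 h4 ⟨_, h3⟩ ⟨_, h5⟩
        (by rw [fb, fb, h7]) (by rw [fb, hω.hermB_decV, h8]; rfl))
      rw [hsh]
      exact Subtype.ext (phi_sq P _ _)
  obtain ⟨c, hc, rfl⟩ := hω.surj a
  have hmem : ψ b c ∈ Subgroup.closure ({var P 14, var P 15} : Set E.π.ker) := by
    rw [← hev hb hc, ev]
    refine Subgroup.prod_mem _ fun i hi => ?_
    split_ifs
    · exact mem_seeds _ hsq hrow (Finset.mem_range.1 hi)
    · exact one_mem _
  have := Subgroup.mem_map_of_mem E.π.ker.subtype hmem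
  rwa [MonoidHom.map_closure, Set.image_insert_eq, Set.image_singleton] at this

end Cfsg.Agent.PSUMult.SixTwo
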