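import Cfsg.Agent.PSUMult.SixTwo.Upper
import Cfsg.Agent.PSUMult.SixTwo.Cover
import Cfsg.Agent.PSUMult.SixTwo.Generators
import Cfsg.Agent.PSUMult.Main
import Cfsg.Agent.Classical.UnitaryThreeTwo
import Cfsg.Prelude.Def_KGroupFacts

/-!
The Schur multiplier of `PSU(6, 2)`.
-/

set_option autoImplicit false
set_option linter.unusedSectionVars false
set_option maxHeartbeats 1000000

namespace Cfsg.Agent.PSUMult.SixTwo

open Module Cfsg.Agent.Classical Cfsg.Agent.Classical.Herm
open scoped commutatorElement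

universe u v

variable {F : Type u} [Field F] [Fintype F]

/-- No odd prime divides the kernel of a stem extension of `SU(6, 2)`. -/
theorem no_odd (hF : Fintype.card F = 2 ^ 2) {r : ℕ} (hr : r.Prime) (hr2 : r ≠ 2) :
    ∀ (k : ℕ) {Γ : Type v} [Group Γ] [Finite Γ] (π : Γ →* Cfsg.SU 6 F 2),
      Nat.card π.ker = k → Cfsg.IsStemExtension π → ¬ r ∣ k := by
  classical
  intro k
  induction k using Nat.strong_induction_on with
  | _ k ih =>
  intro Γ _ _ π hk hs hdvd
  obtain ⟨m, rfl⟩ := hdvd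
  by_cases hm : m = 1
  · subst hm
    rw [mul_one] at hk
    obtain ⟨σ, hσq, hσ, hfix, hq1⟩ := exists_powHom hF
    let τ : Γ →* suG (hermB 6 σ) := (suEquiv 6 hσq).toMonoidHom.comp π
    have hker : τ.ker = π.ker := by
      ext x
      simp [τ, MonoidHom.mem_ker]
    let E : Ext (hermB 6 σ) Γ :=
      { π := τ
        surj := (suEquiv 6 hσq).surjective.comp hs.1
        central := hker.le.trans hs.2.1
        herm := hermB_isHerm hσ 6 }
    have hd : finrank F (Fin 6 → F) = 6 := finrank_fin_fun F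
    have hp : Fact (ringChar F).Prime := ⟨CharP.char_is_prime F _⟩
    have hp2 : ringChar F = 2 := by
      obtain ⟨j, -, hj⟩ := FiniteField.card F (ringChar F)
      have h1 : ringChar F ∣ 2 ^ 2 := by
        rw [← hF, hj]; exact dvd_pow_self _ j.pos.ne'
      exact (Nat.prime_dvd_prime_iff_eq hp.out Nat.prime_two).1 (hp.out.dvd_of_dvd_pow h1)
    refine Ext.not_stem_cross (E := E) (p := ringChar F) (r := r) (q := 2)
      ⟨hp.out, inferInstance, hr, hp2.symm ▸ hr2, by
        show Nat.card τ.ker = r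
        rw [hker, hk]⟩
      ⟨le_rfl, fun h => hr2 ((Nat.prime_dvd_prime_iff_eq hr Nat.prime_two).1 h), hσq, hfix⟩ (by omega)
      (hd.symm ▸ hr_of_not_three_two hfix (by omega) hq1) (hker.le.trans hs.2.2)
  -- divide by a further prime
  obtain ⟨p, hp, hpm⟩ := Nat.exists_prime_and_dvd hm
  have hm0 : 0 < m := by
    rcases Nat.eq_zero_or_pos m with rfl | h
    · exact absurd hk (by rw [mul_zero]; exact Nat.card_pos.ne')
    · exact h
  have := Fact.mk hp
  set K := π.ker
  obtain ⟨⟨z, hzK⟩, hz⟩ := exists_prime_orderOf_dvd_card' (G := K) p (hk ▸ hpm.mul_left r)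
  rw [Subgroup.orderOf_mk] at hz
  set N := Subgroup.zpowers z
  have hNK : N ≤ K := Subgroup.zpowers_le.mpr hzK
  have hNc : N ≤ Subgroup.center Γ := hNK.trans hs.2.1
  have : N.Normal := ⟨fun x hx g => by
    rw [Subgroup.mem_center_iff.mp (hNc hx) g, mul_inv_cancel_right]; exact hx⟩
  let π' : Γ ⧸ N →* Cfsg.SU 6 F 2 := QuotientGroup.lift N π hNK
  have hker : π'.ker = K.map (QuotientGroup.mk' N) := QuotientGroup.ker_lift N π hNK
  have hstem : Cfsg.IsStemExtension π' := by
    refine ⟨fun g => ?_, ?_, ?_⟩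
    · obtain ⟨x, rfl⟩ := hs.1 g
      exact ⟨x, rfl⟩
    · rw [hker]
      rintro _ ⟨x, hx, rfl⟩
      refine Subgroup.mem_center_iff.mpr fun g => ?_
      obtain ⟨y, rfl⟩ := QuotientGroup.mk'_surjective N g
      rw [← map_mul, ← map_mul, Subgroup.mem_center_iff.mp (hs.2.1 hx) y]
    · rw [hker]
      refine (Subgroup.map_mono hs.2.2).trans ?_
      rw [commutator_def, commutator_def, Subgroup.map_commutator]
      exact Subgroup.commutator_mono le_top le_top
  have hsurj : Function.Surjective π' := hstem.1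
  obtain ⟨m', rfl⟩ := hpm
  have hcard : Nat.card π'.ker = r * m' := by
    have h1 := Subgroup.card_eq_card_quotient_mul_card_subgroup π.ker
    have h2 := Subgroup.card_eq_card_quotient_mul_card_subgroup π'.ker
    rw [Nat.card_congr (QuotientGroup.quotientKerEquivOfSurjective π hs.1).toEquiv, hk] at h1
    rw [Nat.card_congr (QuotientGroup.quotientKerEquivOfSurjective π' hsurj).toEquiv] at h2
    rw [Subgroup.card_eq_card_quotient_mul_card_subgroup N, Nat.card_zpowers, hz, h2] at h1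
    have h3 : Nat.card (Cfsg.SU 6 F 2) * p * Nat.card π'.ker = Nat.card (Cfsg.SU 6 F 2) * p * (r * m') := by
      linear_combination h1
    exact Nat.eq_of_mul_eq_mul_left (Nat.mul_pos Nat.card_pos hp.pos) h3
  refine ih (r * m') ?_ π' hcard hstem (dvd_mul_right r m')
  have h4 : 0 < m' := Nat.pos_of_mul_pos_left hm0
  calc r * m' < r * m' * p := lt_mul_of_one_lt_right (Nat.mul_pos hr.pos h4) hp.one_lt
    _ = r * (p * m') := by ring

/-- The kernel of a stem extension of `SU(6, 2)`. -/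
theorem su_kernel (hF : Fintype.card F = 2 ^ 2) {Γ : Type v} [Group Γ] [Finite Γ] (π : Γ →* Cfsg.SU 6 F 2)
    (hs : Cfsg.IsStemExtension π) :
    ∃ z w : Γ, z * z = 1 ∧ w * w = 1 ∧ π z = 1 ∧ π w = 1 ∧ π.ker ≤ Subgroup.closure ({z, w} : Set Γ) := by
  classical
  obtain ⟨σ, hσq, hσ, hfix, hq1⟩ := exists_powHom hF
  let τ : Γ →* suG (hermB 6 σ) := (suEquiv 6 hσq).toMonoidHom.comp π
  have hker : τ.ker = π.ker := by
    ext x
    simp [τ, MonoidHom.mem_ker]
  let E : Ext (hermB 6 σ) Γ :=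
    { π := τ
      surj := (suEquiv 6 hσq).surjective.comp hs.1
      central := hker.le.trans hs.2.1
      herm := hermB_isHerm hσ 6 }
  have hP : IsPGroup 2 π.ker := by
    have : Fact (Nat.Prime 2) := ⟨Nat.prime_two⟩
    have h0 : Nat.card π.ker ≠ 0 := Nat.card_pos.ne'
    refine IsPGroup.of_card (n := (Nat.card π.ker).primeFactorsList.length)
      (Nat.eq_prime_pow_of_unique_prime_dvd h0 fun {r} hr hrd => ?_)
    by_contra hr2
    exact no_odd hF hr hr2 _ π rfl hs hrd
  obtain ⟨z, w, h1, h2, h3, h4, h5⟩ := kernel_two E (by rw [hF]; norm_num) hσq (finrank_fin_fun F)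
    (hker.le.trans hs.2.2) (by
      show IsPGroup 2 τ.ker
      rw [hker]; exact hP)
  exact ⟨z, w, h1, h2, (SetLike.ext_iff.1 hker z).1 h3, (SetLike.ext_iff.1 hker w).1 h4,
    hker ▸ h5⟩

/-- The kernel of every stem extension of `PSU(6, 2)` is an image of `Z3 × Z2 × Z2`. -/
theorem psu_kernel (hF : Fintype.card F = 2 ^ 2) {Δ : Type v} [Group Δ] [Finite Δ] (σ : Δ →* Cfsg.PSU 6 F 2)
    (hs : Cfsg.IsStemExtension σ) : ∃ π : A12 →* σ.ker, Function.Surjective π := by
  classical
  obtain ⟨φ, hσq, hσ, hfix, hq1⟩ := exists_powHom hF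
  set S := Cfsg.SU 6 F 2
  have hperf : commutator S = ⊤ := by
    have h1 : commutator (suG (hermB 6 φ)) = ⊤ := suG_perfect (hermB_isHerm hσ 6)
      (by rw [finrank_fin_fun]; norm_num)
      ((finrank_fin_fun F (n := 6)).symm ▸ hr_of_not_three_two hfix (by omega) hq1)
    have hsurj : Function.Surjective ((suEquiv 6 hσq).symm.toMonoidHom : suG (hermB 6 φ) →* S) :=
      (suEquiv 6 hσq).symm.surjective
    rw [commutator_def, ← Subgroup.map_top_of_surjective _ hsurj, ← Subgroup.map_commutator, ← commutator_def, h1]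
  let μ : S →* Cfsg.PSU 6 F 2 := QuotientGroup.mk' (Subgroup.center S)
  have hμ : Function.Surjective μ := QuotientGroup.mk'_surjective _
  have hμk : ∀ s, μ s = 1 → s ∈ Subgroup.center S := fun s h => (QuotientGroup.eq_one_iff s).1 h
  have hcard : Nat.card (Subgroup.center S) = 3 := by
    rw [card_center_SU hσ hσq hfix (by norm_num)]
    rfl
  have : Fact (Nat.Prime 3) := ⟨Nat.prime_three⟩
  have : Nontrivial (Subgroup.center S) := Finite.one_lt_card_iff_nontrivial.1 (by rw [hcard]; norm_num)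
  obtain ⟨c, hc⟩ := exists_ne (1 : Subgroup.center S)
  have hctop : Subgroup.zpowers c = ⊤ := zpowers_eq_top_of_prime_card hcard hc
  -- the pullback
  let P : Subgroup (S × Δ) :=
    { carrier := {x | μ x.1 = σ x.2}
      one_mem' := by simp
      mul_mem' := fun {a b} ha hb => by
        show μ (a * b).1 = σ (a * b).2
        rw [Prod.fst_mul, Prod.snd_mul, map_mul, map_mul, show μ a.1 = σ a.2 from ha, show μ b.1 = σ b.2 from hb]
      inv_mem' := fun {a} ha => by
        show μ a⁻¹.1 = σ a⁻¹.2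
        rw [Prod.fst_inv, Prod.snd_inv, map_inv, map_inv, show μ a.1 = σ a.2 from ha] }
  let q : P →* S := (MonoidHom.fst S Δ).comp P.subtype
  have hq : Function.Surjective q := fun s => by
    obtain ⟨d, hd⟩ := hs.1 (μ s)
    exact ⟨⟨(s, d), hd.symm⟩, rfl⟩
  have hqc : q.ker ≤ Subgroup.center P := fun x hx => Subgroup.mem_center_iff.2 fun y => by
    have h1 : x.1.1 = 1 := hx
    have h2 : σ x.1.2 = 1 := by rw [← (x.2 : μ _ = σ _), h1, map_one]
    refine Subtype.ext (Prod.ext ?_ (Subgroup.mem_center_iff.1 (hs.2.1 h2) y.1.2))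
    show y.1.1 * x.1.1 = x.1.1 * y.1.1
    rw [h1, mul_one, one_mul]
  let qD : commutator P →* S := q.comp (commutator P).subtype
  have hqD : Function.Surjective qD := fun s => by
    obtain ⟨x, hx, rfl⟩ := (commutator_map_of_perfect q hq hperf).ge (Subgroup.mem_top s)
    exact ⟨⟨x, hx⟩, rfl⟩
  have hqDc : qD.ker ≤ Subgroup.center (commutator P) := fun x hx => Subgroup.mem_center_iff.2 fun y =>
    Subtype.ext (Subgroup.mem_center_iff.1 (hqc hx) y.1)
  have hDstem : Cfsg.IsStemExtension qD :=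
    ⟨hqD, hqDc, by rw [commutator_perfect q hq hperf hqc]; exact le_top⟩
  obtain ⟨z, w, hz2, hw2, hz, hw, hgen⟩ := su_kernel hF qD hDstem
  let g : commutator P →* Δ := (MonoidHom.snd S Δ).comp (P.subtype.comp (commutator P).subtype)
  have hg : ∀ x, μ (qD x) = σ (g x) := fun x => x.1.2
  -- the squares of the kernel are trivial
  have hsq : ∀ t, qD t = 1 → t * t = 1 := fun t ht => by
    refine Subgroup.closure_induction (p := fun t _ => t * t = 1 ∧ t ∈ qD.ker) ?_ ?_ ?_ ?_ (hgen ht) |>.1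
    · rintro x (rfl | rfl)
      exacts [⟨hz2, hz⟩, ⟨hw2, hw⟩]
    · exact ⟨one_mul 1, one_mem _⟩
    · rintro a b - - ⟨ha, ha'⟩ ⟨hb, hb'⟩
      refine ⟨?_, mul_mem ha' hb'⟩
      calc a * b * (a * b) = a * (b * a) * b := by group
        _ = a * (a * b) * b := by rw [(Subgroup.mem_center_iff.1 (hqDc ha') b)]
        _ = (a * a) * (b * b) := by group
        _ = 1 := by rw [ha, hb, one_mul]
    · rintro a - ⟨ha, ha'⟩
      exact ⟨by rw [← mul_inv_rev, ha, inv_one], inv_mem ha'⟩
  obtain ⟨d0, hd0⟩ := hqD c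
  have hc3 : (c : S) ^ 3 = 1 := by
    rw [← Subgroup.coe_pow, ← hcard, pow_card_eq_one', Subgroup.coe_one]
  have h12 : d0 ^ 12 = 1 := by
    have h := hsq (d0 ^ 3) (by rw [map_pow, hd0, hc3])
    rw [show (12 : ℕ) = 3 * 2 * 2 from rfl, pow_mul, pow_mul, pow_two (d0 ^ 3), h, one_pow]
  set a := d0 ^ 4
  have ha : qD a = c := by rw [map_pow, hd0, pow_succ, hc3, one_mul]
  have ha3 : a ^ 3 = 1 := by rw [← pow_mul]; exact h12
  -- the range of `g` contains the derived group
  have hker : σ.ker ≤ Subgroup.closure ({g a, g z, g w} : Set Δ) := by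
    have hle : commutator Δ ≤ g.range := by
      rw [commutator_def, Subgroup.commutator_le]
      intro x _ y _
      have hsur : ∀ x : Δ, ∃ d, σ (g d) = σ x := fun x => by
        obtain ⟨s, hs'⟩ := hμ (σ x)
        obtain ⟨d, rfl⟩ := hqD s
        exact ⟨d, by rw [← hg, hs']⟩
      obtain ⟨x', hx'⟩ := hsur x
      obtain ⟨y', hy'⟩ := hsur y
      refine ⟨⁅x', y'⁆, ?_⟩
      rw [map_commutatorElement]
      have cx := Subgroup.mem_center_iff.1 (hs.2.1 (show (g x')⁻¹ * x ∈ σ.ker by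
        rw [MonoidHom.mem_ker, map_mul, map_inv, hx', inv_mul_cancel]))
      have cy := Subgroup.mem_center_iff.1 (hs.2.1 (show (g y')⁻¹ * y ∈ σ.ker by
        rw [MonoidHom.mem_ker, map_mul, map_inv, hy', inv_mul_cancel]))
      have ex : x = g x' * ((g x')⁻¹ * x) := by group
      have ey : y = g y' * ((g y')⁻¹ * y) := by group
      generalize (g x')⁻¹ * x = u at cx ex
      generalize (g y')⁻¹ * y = t at cy ey
      generalize g x' = A at ex
      generalize g y' = B at ey
      subst ex ey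
      simp only [commutatorElement_def]
      symm
      calc A * u * (B * t) * (A * u)⁻¹ * (B * t)⁻¹ = A * ((u * (B * t)) * u⁻¹) * A⁻¹ * t⁻¹ * B⁻¹ := by group
        _ = A * (((B * t) * u) * u⁻¹) * A⁻¹ * t⁻¹ * B⁻¹ := by rw [cx (B * t)]
        _ = A * B * (t * A⁻¹) * t⁻¹ * B⁻¹ := by group
        _ = A * B * (A⁻¹ * t) * t⁻¹ * B⁻¹ := by rw [cy A⁻¹]
        _ = _ := by group
    intro x hx
    obtain ⟨d, rfl⟩ := hle (hs.2.2 hx)
    have hx' : σ (g d) = 1 := hx
    have hcen : qD d ∈ Subgroup.center S := hμk _ ((hg d).trans hx')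
    obtain ⟨j, hj⟩ := hctop.ge (Subgroup.mem_top (⟨qD d, hcen⟩ : Subgroup.center S))
    have hj : (c : S) ^ j = qD d := by rw [← Subgroup.coe_zpow]; exact congrArg Subtype.val hj
    set t := (a ^ j)⁻¹ * d with ht
    have htk : t ∈ qD.ker := by rw [MonoidHom.mem_ker, map_mul, map_inv, map_zpow, ha, hj, inv_mul_cancel]
    have hsub : (Subgroup.closure ({z, w} : Set (commutator P))).map g ≤
        Subgroup.closure ({g a, g z, g w} : Set Δ) := by
      rw [MonoidHom.map_closure]
      refine Subgroup.closure_mono ?_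
      rintro _ ⟨y, (rfl | rfl), rfl⟩ <;> simp
    rw [show d = a ^ j * t by rw [ht, mul_inv_cancel_left], map_mul, map_zpow]
    exact mul_mem (zpow_mem (Subgroup.subset_closure (by simp)) j) (hsub ⟨t, hgen htk, rfl⟩)
  refine exists_surjective_A12 σ.ker hs.2.1 (a := g a) (b := g z) (c := g w) ?_ ?_ ?_ ?_ ?_ ?_ hker
  · rw [MonoidHom.mem_ker, ← hg, ha]
    exact (QuotientGroup.eq_one_iff _).2 c.2
  · rw [MonoidHom.mem_ker, ← hg, hz, map_one]
  · rw [MonoidHom.mem_ker, ← hg, hw, map_one]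
  · rw [← map_pow, ha3, map_one]
  · rw [← map_mul, hz2, map_one]
  · rw [← map_mul, hw2, map_one]

/-- The Schur multiplier of `PSU(6, 2)`. -/
theorem psu_six_two (hF : Fintype.card F = 4) : Cfsg.HasSchurMultiplier (Cfsg.PSU 6 F 2) A12 := by
  refine ⟨?_, fun Δ _ _ σ hs => psu_kernel (by rw [hF]; norm_num) σ hs⟩
  obtain ⟨Γ, _, _, σ, hs, ⟨e⟩⟩ := exists_cover
  obtain ⟨ψ⟩ := U32.psu_congr (n := 6) (q := 2) (FiniteField.ringEquivOfCardEq
    ((ThreeTrans.SU32.F4.card_eq).trans hF.symm))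
  let δ : ULift.{u} Γ ≃* Γ := MulEquiv.ulift
  let σ' : ULift.{u} Γ →* Cfsg.PSU 6 F 2 := (ψ.toMonoidHom.comp σ).comp δ.toMonoidHom
  have hker : ∀ x, x ∈ σ'.ker ↔ δ x ∈ σ.ker := fun x => by
    show ψ (σ (δ x)) = 1 ↔ σ (δ x) = 1
    exact map_eq_one_iff ψ ψ.injective
  refine ⟨ULift.{u} Γ, inferInstance, inferInstance, σ',
    ⟨(ψ.surjective.comp hs.1).comp δ.surjective, ?_, ?_⟩, ⟨?_⟩⟩
  · intro x hx
    exact Subgroup.mem_center_iff.2 fun y => δ.injective (by
      rw [map_mul, map_mul]; exact Subgroup.mem_center_iff.1 (hs.2.1 ((hker x).1 hx)) (δ y))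
  · intro x hx
    have h := Subgroup.mem_map_of_mem δ.symm.toMonoidHom (hs.2.2 ((hker x).1 hx))
    rw [commutator_def, Subgroup.map_commutator, Subgroup.map_top_of_surjective _ δ.symm.surjective,
      ← commutator_def] at h
    simpa using h
  · exact (MulEquiv.mk ⟨fun x => ⟨δ x.1, (hker _).1 x.2⟩,
      fun y => ⟨δ.symm y.1, (hker _).2 (by rw [δ.apply_symm_apply]; exact y.2)⟩,
      fun x => Subtype.ext (δ.symm_apply_apply x.1), fun y => Subtype.ext (δ.apply_symm_apply y.1)⟩
      fun a b => Subtype.ext (map_mul δ a.1 b.1)).trans e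

end Cfsg.Agent.PSUMult.SixTwo
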