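import Cfsg.Agent.PSUMult.SixTwo.Frames

/-!
In dimension six over the field with four elements the complement over the radical is invariant under the
stabiliser of the hyperbolic pair up to two elements of the kernel of order at most two.
-/

set_option autoImplicit false
set_option linter.unusedSectionVars false

namespace Cfsg.Agent.PSUMult.SixTwo

open Module Cfsg.Agent.Classical Cfsg.Agent.Classical.Herm

variable {F V : Type*} [Field F] [Fintype F] [AddCommGroup V] [Module F V] [FiniteDimensional F V]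
  {σ : F →+* F} {B : V →ₛₗ[σ] V →ₗ[F] F} {Γ : Type*} [Group Γ] [Finite Γ]
variable {E : Ext B Γ} {e f : V} {u : Fin 4 → V} (P : PData E 2 2 e f u)
include P

/-- A pair of orthogonal unit vectors lies on one of the frames. -/
theorem exists_frame_pair {ga gb : Fin 4 → F} (ha : hermB 4 σ ga ga = 1) (hb : hermB 4 σ gb gb = 1)
    (hab : hermB 4 σ ga gb = 0) :
    ∃ b < 40, ∃ i j : Fin 4, i ≠ j ∧ ∃ s t : F, s ≠ 0 ∧ t ≠ 0 ∧ ga = s • fb P b i ∧ gb = t • fb P b j := by
  have hω := four P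
  have hlt : ∀ u v, hC u v < 4 := fun u v => by
    have hl : ∀ k, mulD (sqD (dig u k)) (dig v k) < 4 := fun k => hω.mulD_lt (by
      have := dig_lt u k
      interval_cases hx : dig u k <;> decide) (dig_lt _ _)
    exact Nat.xor_lt_two_pow (n := 2) (Nat.xor_lt_two_pow (n := 2) (hl 0) (hl 1))
      (Nat.xor_lt_two_pow (n := 2) (hl 2) (hl 3))
  have unit : ∀ g : Fin 4 → F, hermB 4 σ g g = 1 →
      ∃ p < 40, ∃ s : F, s ≠ 0 ∧ g = s • decV (om P) (ptCodes.getD p 0) := by
    intro g hg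
    obtain ⟨c, hc, rfl⟩ := hω.surj g
    rw [hω.hermB_decV] at hg
    obtain ⟨p, hp, s, hs, hcs⟩ := units_ok c hc (hω.dec_inj (hlt c c) (by norm_num) (hg.trans rfl))
    exact ⟨p, hp, dec (om P) (s + 1), by rw [Ne, hω.dec_eq_zero (by omega)]; omega, by
      rw [hcs, hω.decV_smulC (by omega)]⟩
  obtain ⟨p, hp, s, hs, rfl⟩ := unit ga ha
  obtain ⟨r, hr, t, ht, rfl⟩ := unit gb hb
  simp only [map_smulₛₗ, LinearMap.smul_apply, smul_eq_mul, RingHom.id_apply, hω.hermB_decV, mul_eq_zero,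
    or_iff_right ((map_ne_zero σ).2 hs), or_iff_right ht, hω.dec_eq_zero (hlt _ _)] at hab
  obtain ⟨b, hb40, i, hi, j, hj, hij, hpi, hrj⟩ := pairs_ok p hp r hr hab
  exact ⟨b, hb40, ⟨i, hi⟩, ⟨j, hj⟩, fun h => hij (congrArg Fin.val h), s, t, hs, ht,
    by rw [fb, hpi], by rw [fb, hrj]⟩

/-- The element attached to a pair of a frame, and its invariance. -/
theorem pair_of_frame {b : ℕ} (hb : b < 40) {i j : Fin 4} (hij : i ≠ j) {s t : F} (hs : s ≠ 0) (ht : t ≠ 0) :
    PData.Fixes E e f u (om P) (Mf P b) (s • fb P b i) (t • fb P b j) ∧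
      ∃ g, PData.IsT E e f u (om P) g (s • fb P b i) (t • fb P b j) := by
  classical
  have hω := four P
  have hc : cl b = b := if_pos hb
  have hon := fb_on P hb
  have P' := P.frame_of_on (fb_on P (cl_lt b))
  let x : N1' σ := ⟨Units.mk0 (om P) hω.ne_zero, Units.ext (by
    show om P * σ (om P) = 1
    rw [sigma_om P, mul_add, hω.root, mul_one]
    linear_combination om P * hω.two)⟩
  let η : Fin 4 → N1' σ := fun k => if k = i ∨ k = j then x * x else x
  have h3 : om P ^ 3 = 1 := by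
    rw [pow_succ, pow_two, hω.root, add_mul, hω.root, one_mul]
    linear_combination om P * hω.two
  have hη : ((1 : Fˣ), η) ∈ Tor σ 4 := by
    show ∏ k, ((η k : Fˣ) : F) = σ ((1 : Fˣ) : F) / ((1 : Fˣ) : F)
    rw [Units.val_one, map_one, div_one]
    have h1 : ∀ k, ((η k : Fˣ) : F) = om P * (if k = i ∨ k = j then om P else 1) := fun k => by
      simp only [η]; split_ifs <;> simp [x]
    simp only [h1, Finset.prod_mul_distrib, Finset.prod_const, Finset.card_fin]
    rw [Finset.prod_eq_mul i j hij (fun k _ hk => by simp [hk.1, hk.2]) (by simp) (by simp)]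
    simp only [true_or, or_true, if_true]
    calc om P ^ 4 * (om P * om P) = (om P ^ 3) ^ 2 := by ring
      _ = 1 := by rw [h3, one_pow]
  obtain ⟨t1, t2, t3⟩ := P'.te_spec ⟨_, hη⟩
  set g₀ := P'.te ⟨_, hη⟩ with hg0
  have hg₀ : PData.IsT E e f u (om P) g₀ (fb P (cl b) i) (fb P (cl b) j) := by
    refine ⟨by simpa using t1, by simpa using t2, by simpa [η, x] using t3 i, by simpa [η, x] using t3 j, ?_⟩
    intro c hci hcj
    have hspan := P'.frame.span _ (P.emb_mem_W c)
    simp only [form_emb_emb E.herm P.frame.on] at hspan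
    rw [hspan, map_sum, Finset.smul_sum]
    refine Finset.sum_congr rfl fun k _ => ?_
    rw [map_smul, t3 k]
    rcases eq_or_ne k i with rfl | hki
    · simp [hci]
    rcases eq_or_ne k j with rfl | hkj
    · simp [hcj]
    simp [η, x, hki, hkj, smul_comm (hermB 4 σ (fb P (cl b) k) c) (om P)]
  rw [hc] at hg₀
  -- scalars do not matter
  have scal : ∀ g, PData.IsT E e f u (om P) g (s • fb P b i) (t • fb P b j) ↔
      PData.IsT E e f u (om P) g (fb P b i) (fb P b j) := by
    intro g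
    have k1 : ∀ {s : F}, s ≠ 0 → ∀ v c : Fin 4 → F, hermB 4 σ (s • v) c = 0 ↔ hermB 4 σ v c = 0 :=
      fun {s} hs v c => by
        rw [map_smulₛₗ, LinearMap.smul_apply, smul_eq_mul, mul_eq_zero, or_iff_right ((map_ne_zero σ).2 hs)]
    have k2 : ∀ {s : F}, s ≠ 0 → ∀ v : Fin 4 → F, E.act g (emb u (s • v)) = (om P * om P) • emb u (s • v) ↔
        E.act g (emb u v) = (om P * om P) • emb u v := fun {s} hs v => by
      rw [map_smul, map_smul, smul_comm]
      exact smul_right_injective V hs |>.eq_iff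
    unfold PData.IsT
    rw [k2 hs, k2 ht]
    simp only [k1 hs, k1 ht]
  refine ⟨fun g hg y hy => ?_, g₀, (scal g₀).2 hg₀⟩
  have hg := (scal g).1 hg
  have heq : E.π g = E.π g₀ := by
    refine P'.π_ext_frame (by rw [hg.1, hg₀.1]) (by rw [hg.2.1, hg₀.2.1]) fun k => ?_
    show E.act g (emb u (fb P (cl b) k)) = E.act g₀ (emb u (fb P (cl b) k))
    rw [hc]
    rcases eq_or_ne k i with rfl | hki
    · rw [hg.2.2.1, hg₀.2.2.1]
    rcases eq_or_ne k j with rfl | hkj
    · rw [hg.2.2.2.1, hg₀.2.2.2.1]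
    have h1 : hermB 4 σ (fb P b i) (fb P b k) = 0 := by rw [hon, if_neg (Ne.symm hki)]
    have h2 : hermB 4 σ (fb P b j) (fb P b k) = 0 := by rw [hon, if_neg (Ne.symm hkj)]
    rw [hg.2.2.2.2 _ h1 h2, hg₀.2.2.2.2 _ h1 h2]
  rw [E.conj_indep heq]
  exact Mf_inv P b _ y hy

theorem uniq_pair {M M' : Subgroup Γ} {a b : Fin 4 → F} (hM : IsComp E e f P.frame.ee M)
    (hM' : IsComp E e f P.frame.ee M') (ha : hermB 4 σ a a = 1) (hb : hermB 4 σ b b = 1)
    (hab : hermB 4 σ a b = 0) (hex : ∃ g, PData.IsT E e f u (om P) g a b)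
    (h1 : PData.Fixes E e f u (om P) M a b) (h2 : PData.Fixes E e f u (om P) M' a b) : M ≤ M' := by
  obtain ⟨g, hg⟩ := hex
  have hω := four P
  exact P.comp_unique hM hM' (l := 1) (k := 1) (by rw [hg.1, one_smul]) (by rw [hg.2.1, one_smul]) one_ne_zero
    one_ne_zero (P.isT_fpf hω.ne_one (fun h => hω.ne_zero (by
      rw [hω.root] at h; exact add_eq_right.1 h)) ha hb hab hg) (h1 g hg) (h2 g hg)

/-- The complement of the first frame is invariant up to the two elements. -/
theorem exists_obstruction : ∃ z w : Γ, E.π z = 1 ∧ E.π w = 1 ∧ z * z = 1 ∧ w * w = 1 ∧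
    ∃ M, IsComp E e f P.frame.ee M ∧ ∀ g, E.act g e = e → E.act g f = f → ∀ x ∈ M,
      ∃ y ∈ M, ∃ k ∈ Subgroup.closure ({z, w} : Set Γ), g * x * g⁻¹ = y * k := by
  classical
  refine ⟨(var P 14 : Γ), (var P 15 : Γ), (var P 14).2, (var P 15).2, ?_, ?_, Mf P 0, Mf_comp P 0, ?_⟩
  · rw [var, if_pos (by norm_num)]; exact phi_sq P _ _
  · rw [var, if_pos (by norm_num)]; exact phi_sq P _ _
  intro g hge hgf x hx
  have h0 : (0 : ℕ) < 40 := by norm_num
  have h01 : (0 : Fin 4) ≠ 1 := by decide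
  have hon := fb_on P h0
  set a := fb P 0 0
  set b := fb P 0 1
  obtain ⟨hF0, g₁, hg₁⟩ := pair_of_frame P h0 h01 (one_ne_zero (α := F)) (one_ne_zero (α := F))
  rw [one_smul, one_smul] at hF0 hg₁
  have ha : hermB 4 σ a a = 1 := by rw [hon, if_pos rfl]
  have hb : hermB 4 σ b b = 1 := by rw [hon, if_pos rfl]
  have hab : hermB 4 σ a b = 0 := by rw [hon, if_neg h01]
  have hW : ∀ z ∈ Wsp B e f, E.act g z ∈ Wsp B e f := fun z hz => stab_maps E.herm (g := E.π g) (l := 1) (k := 1)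
    (show E.act g e = _ by rw [hge, one_smul]) (show E.act g f = _ by rw [hgf, one_smul]) one_ne_zero one_ne_zero hz
  set ga := crd B u (E.act g (emb u a))
  set gb := crd B u (E.act g (emb u b))
  have hga : emb u ga = E.act g (emb u a) := by
    rw [emb_apply]; exact (P.frame.span _ (hW _ (P.emb_mem_W a))).symm
  have hgb : emb u gb = E.act g (emb u b) := by
    rw [emb_apply]; exact (P.frame.span _ (hW _ (P.emb_mem_W b))).symm
  have hga' : hermB 4 σ ga ga = 1 := by
    rw [← form_emb_emb E.herm P.frame.on, hga, E.act_iso, form_emb_emb E.herm P.frame.on, ha]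
  have hgb' : hermB 4 σ gb gb = 1 := by
    rw [← form_emb_emb E.herm P.frame.on, hgb, E.act_iso, form_emb_emb E.herm P.frame.on, hb]
  have hgab : hermB 4 σ ga gb = 0 := by
    rw [← form_emb_emb E.herm P.frame.on, hga, hgb, E.act_iso, form_emb_emb E.herm P.frame.on, hab]
  have hge' : E.act g⁻¹ e = e := by conv_lhs => rw [← hge]; rw [E.act_inv_act]
  have hgf' : E.act g⁻¹ f = f := by conv_lhs => rw [← hgf]; rw [E.act_inv_act]
  have hconj : PData.Fixes E e f u (om P) ((Mf P 0).map (MulAut.conj g).toMonoidHom) ga gb := by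
    intro h hh
    have hh' : PData.IsT E e f u (om P) (g⁻¹ * h * g) a b := by
      refine ⟨?_, ?_, ?_, ?_, fun c hc1 hc2 => ?_⟩
      · rw [E.act_mul, E.act_mul, hge, hh.1, hge']
      · rw [E.act_mul, E.act_mul, hgf, hh.2.1, hgf']
      · rw [E.act_mul, E.act_mul, ← hga, hh.2.2.1, map_smul, hga, E.act_inv_act]
      · rw [E.act_mul, E.act_mul, ← hgb, hh.2.2.2.1, map_smul, hgb, E.act_inv_act]
      · set gc := crd B u (E.act g (emb u c))
        have hgc : emb u gc = E.act g (emb u c) := by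
          rw [emb_apply]; exact (P.frame.span _ (hW _ (P.emb_mem_W c))).symm
        have h1 : hermB 4 σ ga gc = 0 := by
          rw [← form_emb_emb E.herm P.frame.on, hga, hgc, E.act_iso, form_emb_emb E.herm P.frame.on, hc1]
        have h2 : hermB 4 σ gb gc = 0 := by
          rw [← form_emb_emb E.herm P.frame.on, hgb, hgc, E.act_iso, form_emb_emb E.herm P.frame.on, hc2]
        rw [E.act_mul, E.act_mul, ← hgc, hh.2.2.2.2 gc h1 h2, map_smul, hgc, E.act_inv_act]
    rintro _ ⟨z, hz, rfl⟩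
    refine ⟨(g⁻¹ * h * g) * z * (g⁻¹ * h * g)⁻¹, hF0 _ hh' z hz, ?_⟩
    show g * ((g⁻¹ * h * g) * z * (g⁻¹ * h * g)⁻¹) * g⁻¹ = h * (g * z * g⁻¹) * h⁻¹
    group
  obtain ⟨b', hb', i, j, hij, s, t, hs, ht, es, et⟩ := exists_frame_pair P hga' hgb' hgab
  obtain ⟨hF, hex⟩ := pair_of_frame P hb' hij hs ht
  rw [← es, ← et] at hF hex
  have hmem := uniq_pair P (P.comp_conj (Mf_comp P 0) hge hgf) (Mf_comp P b') hga' hgb' hgab hex hconj hF
    ⟨x, hx, rfl⟩
  obtain ⟨y, hy, c, hyc⟩ := P.mem_of_dif (Mf_comp P b') (Mf_comp P 0) hmem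
  exact ⟨y, hy, _, phi_mem P hb' c, hyc⟩

end Cfsg.Agent.PSUMult.SixTwo
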