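import Cfsg.Agent.PSUMult.SixTwo.Obstruct
import Cfsg.Agent.PSUMult.PPart
import Cfsg.Agent.PSUMult.CrossMain

/-!
The kernel of a stem extension of `SU(6, 2)` is generated by two elements of order at most two.
-/

set_option autoImplicit false
set_option linter.unusedSectionVars false

namespace Cfsg.Agent.PSUMult.SixTwo

open Module Cfsg.Agent.Classical Cfsg.Agent.Classical.Herm
open scoped commutatorElement

variable {F V : Type*} [Field F] [Fintype F] [AddCommGroup V] [Module F V] [FiniteDimensional F V]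
  {σ : F →+* F} {B : V →ₛₗ[σ] V →ₗ[F] F}

/-- The Gram matrix of a frame. -/
theorem gram_frame (h : IsHerm B) {e f : V} {m : ℕ} {u : Fin m → V} (hu : Frame B e f u)
    {e' f' : V} {u' : Fin m → V} (hu' : Frame B e' f' u') (c : Fin 2 ⊕ Fin m → F)
    (hc : ∀ i, σ (c i) * c i = 1) (hc0 : c (.inl 0) = 1) (hc1 : c (.inl 1) = 1) (i j : Fin 2 ⊕ Fin m) :
    B (hu.basis h i) (hu.basis h j) = B (c i • hu'.basis h i) (c j • hu'.basis h j) := by
  have hfu : ∀ i, B f (u i) = 0 := fun i => (hu.mem i).2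
  have heu : ∀ i, B e (u i) = 0 := fun i => (hu.mem i).1
  have hfu' : ∀ i, B f' (u' i) = 0 := fun i => (hu'.mem i).2
  have heu' : ∀ i, B e' (u' i) = 0 := fun i => (hu'.mem i).1
  simp only [hu.basis_apply h, hu'.basis_apply h, LinearMap.map_smulₛₗ₂, map_smul, smul_eq_mul]
  rcases i with i | i <;> rcases j with j | j
  · fin_cases i <;> fin_cases j <;>
      simp [hc0, hc1, hu.ee, hu.ff, hu.ef, hu'.ee, hu'.ff, hu'.ef, fe h hu.ef, fe h hu'.ef]
  · fin_cases i <;> simp [hfu, heu, hfu', heu']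
  · fin_cases j <;> simp [(eq_zero_comm h).1 (hfu _), (eq_zero_comm h).1 (heu _), (eq_zero_comm h).1 (hfu' _),
      (eq_zero_comm h).1 (heu' _)]
  · by_cases hij : i = j
    · subst hij
      simp [hu.on i i, hu'.on i i]
      linear_combination -hc (.inr i)
    · simp [hu.on i j, hu'.on i j, hij]

/-- The special group is transitive on the hyperbolic pairs. -/
theorem exists_trans (h : IsHerm B) (hN : ∀ x : F, x ≠ 0 → σ x * x = 1) {e f e' f' : V} {m : ℕ}
    {u : Fin (m + 1) → V} (hu : Frame B e f u) {u' : Fin (m + 1) → V} (hu' : Frame B e' f' u') :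
    ∃ g : suG B, g.1 e = e' ∧ g.1 f = f' := by
  classical
  set b := hu.basis h
  set b' := hu'.basis h
  set d := b.det b' with hd
  have hd0 : d ≠ 0 := (b.isUnit_det b').ne_zero
  let c : Fin 2 ⊕ Fin (m + 1) → F := Sum.elim 1 (Function.update 1 0 d⁻¹)
  have hc0 : ∀ i, c i ≠ 0 := by
    rintro (i | i)
    · simp [c]
    · by_cases hi : i = 0
      · subst hi; simp [c, hd0]
      · simp [c, hi]
  let g := b.equiv (b'.isUnitSMul fun i => isUnit_iff_ne_zero.2 (hc0 i)) (Equiv.refl _)
  have hg : ∀ i, g (b i) = c i • b' i := fun i => by simp [g, Basis.equiv_apply, Basis.isUnitSMul_apply]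
  have hdet : LinearEquiv.det g = 1 := by
    refine Units.ext ?_
    rw [LinearEquiv.coe_det, Units.val_one]
    have h1 := b.det_comp (g : V →ₗ[F] V) b
    rw [Basis.det_self, mul_one] at h1
    rw [← h1, show ((g : V →ₗ[F] V) : V → V) ∘ b = fun i => c i • b' i from funext hg]
    have h2 : b.det (fun i => c i • b' i) = (∏ i, c i) * d :=
      (b.det.toMultilinearMap.map_smul_univ c b').trans (smul_eq_mul _ _)
    rw [h2, Fintype.prod_sum_type]
    simp only [c, Sum.elim_inl, Sum.elim_inr, Pi.one_apply, Finset.prod_const_one, one_mul]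
    rw [Finset.prod_update_of_mem (Finset.mem_univ _)]
    simp [inv_mul_cancel₀ hd0]
  refine ⟨⟨g, isometry_of_basis b _ (fun i j => ?_), hdet⟩, ?_, ?_⟩
  · simp only [Basis.isUnitSMul_apply]
    exact gram_frame h hu hu' c (fun i => hN _ (hc0 i)) rfl rfl i j
  · have := hg (.inl 0); simpa [b, b', hu.basis_apply h, hu'.basis_apply h, c] using this
  · have := hg (.inl 1); simpa [b, b', hu.basis_apply h, hu'.basis_apply h, c] using this

/-- The conjugate of an Eichler element. -/
theorem conj_qel_move (h : IsHerm B) (g : suG B) {e a : V} {d : F} (c : Adm B e a d) :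
    g * qel h e a d * g⁻¹ = qel h (g.1 e) (g.1 a) d := by
  have c' : Adm B (g.1 e) (g.1 a) d := ⟨by rw [g.2.1]; exact c.1, by rw [g.2.1]; exact c.2.1,
    by rw [g.2.1]; exact c.2.2⟩
  rw [mul_inv_eq_iff_eq_mul]
  refine Subtype.ext (LinearEquiv.ext fun x => ?_)
  simp only [Subgroup.coe_mul, LinearEquiv.mul_apply, qel_apply h c, qel_apply h c', g.2.1, map_add, map_smul]

variable {Γ : Type*} [Group Γ] [Finite Γ]

/-- A frame in dimension six. -/
theorem exists_frame_six (h : IsHerm B) (hd : finrank F V = 6) :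
    ∃ (e f : V) (u : Fin 4 → V), Frame B e f u := by
  classical
  obtain ⟨γ, hγ0, hγ⟩ := exists_neg_one_norm h
  obtain ⟨ζ, hζ1, hζ⟩ := exists_norm_one_ne_one h
  have hs : (1 : F) - ζ ≠ 0 := sub_ne_zero.2 (Ne.symm hζ1)
  obtain ⟨b, hb⟩ := exists_orthonormal h
  let a : Fin 6 → V := fun i => b (Fin.cast hd.symm i)
  have ha : Herm.IsON B a := fun i j => by
    show B (b _) (b _) = _
    rw [hb]; simp [Fin.ext_iff]
  set e := a 0 + γ • a 1 with he
  set f := ((1 : F) - ζ)⁻¹ • (a 0 + (γ * ζ) • a 1) with hf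
  let u : Fin 4 → V := fun i => a i.succ.succ
  have hne : ∀ i : Fin 4, i.succ.succ ≠ (0 : Fin 6) ∧ i.succ.succ ≠ (1 : Fin 6) := fun i =>
    ⟨Fin.succ_ne_zero _, fun h1 => Fin.succ_ne_zero i (Fin.succ_injective _ h1)⟩
  refine ⟨e, f, u, ⟨?_, ?_, ?_, fun i j => by simp [u, ha _ _], fun i => ?_, fun x hx => ?_⟩⟩
  · simp [he, ha _ _]; linear_combination hγ
  · rw [hf, smul_self h]
    simp [ha _ _]
    exact Or.inr (by linear_combination hγ + γ * σ γ * hζ)
  · simp [he, hf, ha _ _]
    field_simp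
    linear_combination ζ * hγ
  · rw [mem_Wsp]
    constructor
    · simp [he, u, ha _ _, (hne i).1.symm, (hne i).2.symm]
    · simp [hf, u, ha _ _, (hne i).1.symm, (hne i).2.symm]
  · obtain ⟨h1, h2⟩ := hx
    have h1 : B e x = 0 := h1
    have h2 : B f x = 0 := h2
    rw [hf] at h2
    simp only [LinearMap.map_smulₛₗ₂, smul_eq_mul, mul_eq_zero] at h2
    have h2' := h2.resolve_left ((map_ne_zero σ).2 (inv_ne_zero hs))
    simp [he] at h1
    simp at h2'
    have h3 : σ γ * B (a 1) x * (1 - σ ζ) = 0 := by linear_combination h1 - h2'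
    have hz : (1 : F) - σ ζ ≠ 0 := by rw [← map_one σ, ← map_sub]; exact (map_ne_zero σ).2 hs
    have k1 : B (a 1) x = 0 := ((mul_eq_zero.1 ((mul_eq_zero.1 h3).resolve_right hz))).resolve_left
      ((map_ne_zero σ).2 hγ0)
    have k0 : B (a 0) x = 0 := by linear_combination h1 - σ γ * k1
    have hall : ∀ i : Fin 6, B (a i) (x - ∑ i : Fin 4, B (u i) x • u i) = 0 := by
      intro i
      rw [map_sub, map_sum]
      simp only [map_smul, smul_eq_mul, u, ha i _]
      refine Fin.cases ?_ (fun j => Fin.cases ?_ (fun k => ?_) j) i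
      · rw [k0, Finset.sum_eq_zero fun k _ => by rw [if_neg (hne k).1.symm, mul_zero], sub_zero]
      · rw [show (Fin.succ 0 : Fin 6) = 1 from rfl, k1,
          Finset.sum_eq_zero fun k _ => by rw [if_neg (hne k).2.symm, mul_zero], sub_zero]
      · rw [Finset.sum_eq_single k (fun k' _ hk => by
          rw [if_neg fun h' => hk (Fin.succ_injective _ (Fin.succ_injective _ h')).symm, mul_zero]) (by simp),
          if_pos rfl, mul_one, sub_self]
    refine sub_eq_zero.1 (h.nondeg _ fun y => (eq_zero_comm h).1 ?_)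
    rw [← b.sum_repr y, map_sum, LinearMap.sum_apply]
    refine Finset.sum_eq_zero fun i _ => ?_
    rw [LinearMap.map_smulₛₗ₂, show B (b i) (x - ∑ i : Fin 4, B (u i) x • u i) = 0 from
      (by rw [← hall (Fin.cast hd i)]; simp [a]), smul_zero]

/-- A two-group kernel is generated by two elements of order at most two. -/
theorem kernel_two (E : Ext B Γ) (hF : Fintype.card F = 4) (hσ : ∀ x, σ x = x ^ 2) (hd : finrank F V = 6)
    (hstem : E.π.ker ≤ commutator Γ) (hP : IsPGroup 2 E.π.ker) :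
    ∃ z w : Γ, z * z = 1 ∧ w * w = 1 ∧ E.π z = 1 ∧ E.π w = 1 ∧
      E.π.ker ≤ Subgroup.closure ({z, w} : Set Γ) := by
  classical
  have : Fact (Nat.Prime 2) := ⟨Nat.prime_two⟩
  have hchar : CharP F 2 := by
    have h2 : ((Fintype.card F : ℕ) : F) = 0 := Nat.cast_card_eq_zero F
    rw [hF] at h2
    have : (2 : F) * 2 = 0 := by push_cast at h2; linear_combination h2
    exact CharTwo.of_one_ne_zero_of_two_eq_zero one_ne_zero (mul_self_eq_zero.1 this)
  obtain ⟨e, f, u, hu⟩ := exists_frame_six E.herm hd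
  have P : PData E 2 2 e f u := ⟨Nat.prime_two, hchar, hP, le_rfl, by rw [hF]; norm_num, hσ, hu, .inr (.inr (by norm_num))⟩
  obtain ⟨z, w, hz, hw, hz2, hw2, M, hM, hinv⟩ := exists_obstruction P
  refine ⟨z, w, hz2, hw2, hz, hw, ?_⟩
  set N := Subgroup.closure ({z, w} : Set Γ)
  have hNker : N ≤ E.π.ker := (Subgroup.closure_le _).2 (by
    rintro x (rfl | rfl)
    exacts [hz, hw])
  by_contra hne
  -- a subgroup of index two in the kernel
  obtain ⟨k, hk⟩ := IsPGroup.iff_card.1 hP
  obtain ⟨l, hl⟩ := IsPGroup.iff_card.1 (hP.to_le hNker)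
  have hlk : l < k := by
    have h1 := Subgroup.card_le_of_le hNker
    rw [hk, hl] at h1
    rcases lt_or_eq_of_le ((Nat.pow_le_pow_iff_right (by norm_num)).1 h1) with h | h
    · exact h
    · exact absurd (Subgroup.eq_of_le_of_card_ge hNker (by rw [hk, hl, h])).ge hne
  obtain ⟨K, hKcard, hNK⟩ := Sylow.exists_subgroup_card_pow_prime_le (p := 2) (G := E.π.ker) (m := k - 1)
    (by rw [hk]; exact pow_dvd_pow _ (Nat.sub_le _ _)) (N.subgroupOf E.π.ker)
    (n := l) (by rw [Nat.card_congr (Subgroup.subgroupOfEquivOfLe hNker).toEquiv, hl]) (by omega)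
  set N' : Subgroup Γ := K.map E.π.ker.subtype with hN'
  have hN'ker : N' ≤ E.π.ker := Subgroup.map_subtype_le K
  have hNN' : N ≤ N' := fun x hx => ⟨⟨x, hNker hx⟩, hNK (show (⟨x, hNker hx⟩ : E.π.ker) ∈ N.subgroupOf _ from hx), rfl⟩
  have : N'.Normal := ⟨fun x hx g => by
    rw [(E.ker_comm (hN'ker hx) g).eq, mul_inv_cancel_right]; exact hx⟩
  let mk : Γ →* Γ ⧸ N' := QuotientGroup.mk' N'
  have hmk : Function.Surjective mk := QuotientGroup.mk'_surjective _
  let π' : Γ ⧸ N' →* suG B := QuotientGroup.lift N' E.π hN'ker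
  have hπ' : ∀ x, π' (mk x) = E.π x := fun x => rfl
  have hker' : π'.ker = E.π.ker.map mk := by
    ext y
    obtain ⟨x, rfl⟩ := hmk y
    constructor
    · exact fun hy => ⟨x, hy, rfl⟩
    · rintro ⟨x', hx', he⟩
      show π' (mk x) = 1
      rw [← he]; exact hx'
  let E' : Ext B (Γ ⧸ N') :=
    { π := π'
      surj := fun y => by obtain ⟨x, rfl⟩ := E.surj y; exact ⟨mk x, rfl⟩
      central := by
        rw [hker']
        rintro _ ⟨x, hx, rfl⟩
        refine Subgroup.mem_center_iff.2 fun y => ?_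
        obtain ⟨y, rfl⟩ := hmk y
        rw [← map_mul, ← map_mul, (E.ker_comm hx y).eq]
      herm := E.herm }
  have hcard : Nat.card E'.π.ker = 2 := by
    show Nat.card π'.ker = 2
    rw [hker']
    have h1 : Nat.card (E.π.ker.map mk) * Nat.card N' = Nat.card E.π.ker := by
      have e1 : (mk.comp E.π.ker.subtype).range = E.π.ker.map mk := by
        rw [MonoidHom.range_comp, Subgroup.range_subtype]
      have e2 : (mk.comp E.π.ker.subtype).ker = N'.subgroupOf E.π.ker := by
        rw [← MonoidHom.comap_ker, QuotientGroup.ker_mk']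
        rfl
      rw [← e1, ← Subgroup.index_ker, e2, ← Nat.card_congr (Subgroup.subgroupOfEquivOfLe hN'ker).toEquiv,
        mul_comm]
      exact Subgroup.card_mul_index _
    have hN'card : Nat.card N' = 2 ^ (k - 1) := by
      rw [hN', Subgroup.card_map_of_injective E.π.ker.subtype_injective, hKcard]
    rw [hN'card, hk] at h1
    have h3 : 2 ^ k = 2 * 2 ^ (k - 1) := by rw [← pow_succ']; congr 1; omega
    rw [h3] at h1
    exact Nat.eq_of_mul_eq_mul_right (by positivity) h1
  have hstem' : E'.π.ker ≤ commutator (Γ ⧸ N') := by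
    show π'.ker ≤ _
    rw [hker', commutator_def, ← Subgroup.map_top_of_surjective mk hmk, ← Subgroup.map_commutator]
    exact Subgroup.map_mono hstem
  -- the image of the complement
  have hact : ∀ (g : Γ) (x : V), E'.act (mk g) x = E.act g x := fun g x => rfl
  have P0 : PData E' 2 2 e f u := ⟨Nat.prime_two, hchar, IsPGroup.of_card (n := 1) (hcard.trans (pow_one 2).symm),
    le_rfl, by rw [hF]; norm_num, hσ, hu, .inr (.inr (by norm_num))⟩
  set M' := M.map mk
  have hM' : IsComp E' e f P0.frame.ee M' := by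
    refine ⟨?_, ?_, ?_, ?_⟩
    · rintro _ ⟨x, hx, rfl⟩; exact hM.le hx
    · rintro _ ⟨x, hx, rfl⟩ h1; rw [hM.inj x hx h1, map_one]
    · intro a ha d hd
      obtain ⟨x, hx, hxπ⟩ := hM.surj a ha d hd
      exact ⟨mk x, ⟨x, hx, rfl⟩, hxπ⟩
    · rw [Subgroup.commutator_le]
      intro a ha b hb
      obtain ⟨a, rfl⟩ := hmk a
      obtain ⟨b, rfl⟩ := hmk b
      exact ⟨⁅a, b⁆, hM.der (Subgroup.commutator_mem_commutator ha hb), map_commutatorElement mk a b⟩
  have hinv' : ∀ g, E'.act g e = e → E'.act g f = f → Inv M' g := by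
    intro g hge hgf
    obtain ⟨g, rfl⟩ := hmk g
    rintro _ ⟨x, hx, rfl⟩
    obtain ⟨y, hy, c, hc, he⟩ := hinv g hge hgf x hx
    refine ⟨y, hy, ?_⟩
    rw [← map_mul, ← map_inv, ← map_mul, he, map_mul,
      show mk c = 1 from (QuotientGroup.eq_one_iff c).2 (hNN' hc), mul_one]
  have hN : ∀ x : F, x ≠ 0 → σ x * x = 1 := fun x hx => by
    rw [hσ, ← pow_succ]
    have := FiniteField.pow_card_sub_one_eq_one x hx
    rwa [hF] at this
  -- every pair is an image of the first
  have D : CharData E' 2 2 :=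
    { prime := Nat.prime_two
      char := hchar
      ker_card := hcard
      two_le := le_rfl
      cardF := by rw [hF]; norm_num
      pow := hσ
      dim := by omega
      dim_three := fun h => by omega
      dim_four := fun h => by omega
      compl := fun {m e₁ f₁ u₁} P1 => by
        have := P1.frame.finrank_eq E'.herm
        obtain rfl : m = 4 := by omega
        obtain ⟨g0, hg0e, hg0f⟩ := exists_trans E.herm hN (m := 3) hu P1.frame
        obtain ⟨g, hg⟩ := E'.surj g0
        have hge : E'.act g e = e₁ := by rw [Ext.act, hg]; exact hg0e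
        have hgf : E'.act g f = f₁ := by rw [Ext.act, hg]; exact hg0f
        have hie : E'.act g⁻¹ e₁ = e := by rw [← hge, E'.act_inv_act]
        have hif : E'.act g⁻¹ f₁ = f := by rw [← hgf, E'.act_inv_act]
        have hmove : ∀ a ∈ Wsp B e₁ f₁, E'.act g⁻¹ a ∈ Wsp B e f := fun a ha => by
          rw [mem_Wsp, ← E'.act_iso g e, ← E'.act_iso g f, E'.act_act_inv, hge, hgf]
          exact ha
        refine ⟨M'.map (MulAut.conj g).toMonoidHom, ⟨?_, ?_, ?_, ?_⟩, ?_⟩
        · rintro _ ⟨x, hx, rfl⟩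
          obtain ⟨a, ha, d, hd, hxπ⟩ := hM'.le hx
          refine ⟨E'.act g a, ?_, d, by rw [E'.act_iso]; exact hd, ?_⟩
          · rw [mem_Wsp, ← hge, ← hgf, E'.act_iso, E'.act_iso]; exact ha
          · show E'.π (g * x * g⁻¹) = _
            rw [map_mul, map_mul, map_inv, hxπ, conj_qel_move E'.herm _ (adm_of_mem E.herm hu.ee ha hd)]
            rw [show (E'.π g).1 e = e₁ from hge]
            rfl
        · rintro _ ⟨x, hx, rfl⟩ h1
          have : E'.π x = 1 := by
            have h' : E'.π (g * x * g⁻¹) = 1 := h1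
            rw [map_mul, map_mul, map_inv, mul_inv_eq_one, mul_eq_left] at h'
            exact h'
          simp [hM'.inj x hx this]
        · intro a ha d hd
          have hd' : d + σ d = -B (E'.act g⁻¹ a) (E'.act g⁻¹ a) := by rw [E'.act_iso]; exact hd
          obtain ⟨x, hx, hxπ⟩ := hM'.surj _ (hmove a ha) d hd'
          refine ⟨g * x * g⁻¹, ⟨x, hx, rfl⟩, ?_⟩
          rw [map_mul, map_mul, map_inv, hxπ, conj_qel_move E'.herm _ (adm_of_mem E.herm hu.ee (hmove a ha) hd'),
            show (E'.π g).1 e = e₁ from hge, show (E'.π g).1 (E'.act g⁻¹ a) = a from E'.act_act_inv g a]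
        · rw [Subgroup.commutator_le]
          intro x hx y hy
          have hQ : ∀ x ∈ (Qgrp E'.herm e₁ f₁ P1.frame.ee).comap E'.π,
              g⁻¹ * x * g ∈ (Qgrp E'.herm e f P0.frame.ee).comap E'.π := by
            rintro x ⟨a, ha, d, hd, hxπ⟩
            refine ⟨E'.act g⁻¹ a, hmove a ha, d, by rw [E'.act_iso]; exact hd, ?_⟩
            have := conj_qel_move E'.herm (E'.π g⁻¹) (adm_of_mem E.herm P1.frame.ee ha hd)
            rw [show (E'.π g⁻¹).1 e₁ = e from hie] at this
            rw [map_mul, map_mul, hxπ]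
            rw [← map_inv E'.π g⁻¹, inv_inv] at this
            exact this
          refine ⟨⁅g⁻¹ * x * g, g⁻¹ * y * g⁆, hM'.der (Subgroup.commutator_mem_commutator (hQ x hx) (hQ y hy)), ?_⟩
          show g * ⁅g⁻¹ * x * g, g⁻¹ * y * g⁆ * g⁻¹ = ⁅x, y⁆
          simp only [commutatorElement_def]; group
        · intro h he hf
          rintro _ ⟨x, hx, rfl⟩
          refine ⟨(g⁻¹ * h * g) * x * (g⁻¹ * h * g)⁻¹, hinv' _ ?_ ?_ x hx, ?_⟩
          · rw [E'.act_mul, E'.act_mul, hge, he, hie]
          · rw [E'.act_mul, E'.act_mul, hgf, hf, hif]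
          · show g * ((g⁻¹ * h * g) * x * (g⁻¹ * h * g)⁻¹) * g⁻¹ = h * (g * x * g⁻¹) * h⁻¹
            group }
  exact D.not_stem_char hstem'

end Cfsg.Agent.PSUMult.SixTwo
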