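import Cfsg.Agent.Fi22U62Iso.Main
import Cfsg.Agent.PSUMult.SixTwo.CoverCheck

/-!
The diagonal automorphism of `PSU(6, 2)` does not lift to the double cover in `Fi22`.
-/

set_option autoImplicit false
set_option maxRecDepth 100000

namespace Cfsg.Agent.PSUMult.SixTwo

open Cfsg.Agent.CosetCert Cfsg.Agent.Classical Cfsg.Agent.Classical.Herm
open Cfsg.Agent.Fi22U62Iso Cfsg.Agent.CosetCert.Fi22U62
open Cfsg.Agent.ThreeTrans.SU32
open scoped Matrix commutatorElement

/-- Conjugation of matrices by the diagonal matrix. -/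
noncomputable def diaConj (M : Matrix (Fin 6) (Fin 6) K) : Matrix (Fin 6) (Fin 6) K :=
  Matrix.diagonal CoverData.dia * M * Matrix.diagonal fun i => F4.frob (CoverData.dia i)

theorem dia_norm : ∀ i, CoverData.dia i * F4.frob (CoverData.dia i) = 1 := by decide

theorem dia_mul : (Matrix.diagonal fun i => F4.frob (CoverData.dia i)) * Matrix.diagonal CoverData.dia = 1 := by
  rw [Matrix.diagonal_mul_diagonal, ← Matrix.diagonal_one]
  congr 1
  funext i
  rw [mul_comm, dia_norm]

theorem dia_mul' : Matrix.diagonal CoverData.dia * (Matrix.diagonal fun i => F4.frob (CoverData.dia i)) = 1 := by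
  rw [Matrix.diagonal_mul_diagonal, ← Matrix.diagonal_one]
  congr 1
  funext i
  rw [dia_norm]

theorem diaConj_mul (M N : Matrix (Fin 6) (Fin 6) K) : diaConj (M * N) = diaConj M * diaConj N := by
  simp only [diaConj, ← mul_assoc]
  rw [mul_assoc (Matrix.diagonal CoverData.dia * M) (Matrix.diagonal fun i => F4.frob (CoverData.dia i)),
    dia_mul, mul_one]

theorem diaConj_mem (A : Cfsg.SU 6 K 2) :
    ∃ h : (diaConj (A.1 : Matrix (Fin 6) (Fin 6) K)).det = 1,
      (⟨diaConj (A.1 : Matrix (Fin 6) (Fin 6) K), h⟩ : Matrix.SpecialLinearGroup (Fin 6) K) ∈ Cfsg.SU 6 K 2 := by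
  have hd : (diaConj (A.1 : Matrix (Fin 6) (Fin 6) K)).det = 1 := by
    rw [diaConj, Matrix.det_mul_right_comm, Matrix.det_mul, dia_mul', Matrix.det_one, one_mul,
      Matrix.SpecialLinearGroup.det_coe]
  refine ⟨hd, (mem_SU_iff frob_sq _).2 fun u v => ?_⟩
  have key : ∀ (d : Fin 6 → K), (∀ i, d i * F4.frob (d i) = 1) → ∀ u v : Fin 6 → K,
      hermB 6 F4.frob (Matrix.diagonal d *ᵥ u) (Matrix.diagonal d *ᵥ v) = hermB 6 F4.frob u v := by
    intro d hd u v
    rw [hermB_apply, hermB_apply]
    refine Finset.sum_congr rfl fun i _ => ?_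
    rw [Matrix.mulVec_diagonal, Matrix.mulVec_diagonal, map_mul]
    linear_combination (F4.frob (u i) * v i) * hd i
  have h2 : ∀ i, F4.frob (CoverData.dia i) * F4.frob (F4.frob (CoverData.dia i)) = 1 := by decide
  show hermB 6 F4.frob (diaConj _ *ᵥ u) (diaConj _ *ᵥ v) = _
  simp only [diaConj, ← Matrix.mulVec_mulVec]
  rw [key _ dia_norm, (mem_SU_iff frob_sq A.1).1 A.2, key _ h2]

/-- The diagonal automorphism of `SU(6, 2)`. -/
noncomputable def diaHom : Cfsg.SU 6 K 2 →* Cfsg.SU 6 K 2 :=
  MonoidHom.mk' (fun A => ⟨⟨_, (diaConj_mem A).1⟩, (diaConj_mem A).2⟩) fun A B =>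
    Subtype.ext (Subtype.ext (diaConj_mul A.1 B.1))

theorem diaHom_coe (A : Cfsg.SU 6 K 2) :
    ((diaHom A).1 : Matrix (Fin 6) (Fin 6) K) = diaConj (A.1 : Matrix (Fin 6) (Fin 6) K) := rfl

theorem diaHom_bijective : Function.Bijective diaHom := by
  have : Finite (Cfsg.SU 6 K 2) := inferInstance
  refine Finite.injective_iff_bijective.1 fun A B h => Subtype.ext (Subtype.ext ?_)
  have h' : diaConj (A.1 : Matrix (Fin 6) (Fin 6) K) = diaConj (B.1 : Matrix (Fin 6) (Fin 6) K) :=
    congrArg (fun X : Cfsg.SU 6 K 2 => (X.1 : Matrix (Fin 6) (Fin 6) K)) h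
  have key : ∀ M : Matrix (Fin 6) (Fin 6) K, (Matrix.diagonal fun i => F4.frob (CoverData.dia i)) *
      diaConj M * Matrix.diagonal CoverData.dia = M := fun M => by
    simp only [diaConj, ← mul_assoc, dia_mul, one_mul]
    rw [mul_assoc, dia_mul, mul_one]
  rw [← key (A.1 : Matrix (Fin 6) (Fin 6) K), h', key]

/-- The diagonal automorphism of `PSU(6, 2)`. -/
noncomputable def diaP : Cfsg.PSU 6 K 2 →* Cfsg.PSU 6 K 2 :=
  QuotientGroup.map (Subgroup.center (Cfsg.SU 6 K 2)) (Subgroup.center (Cfsg.SU 6 K 2)) diaHom fun z hz => by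
    rw [Subgroup.mem_comap, Subgroup.mem_center_iff]
    intro g
    obtain ⟨g, rfl⟩ := diaHom_bijective.2 g
    rw [← map_mul, ← map_mul, Subgroup.mem_center_iff.1 hz g]

theorem diaP_mk (A : Cfsg.SU 6 K 2) :
    diaP (QuotientGroup.mk' (Subgroup.center (Cfsg.SU 6 K 2)) A) =
      QuotientGroup.mk' (Subgroup.center (Cfsg.SU 6 K 2)) (diaHom A) := rfl

theorem diaP_surjective : Function.Surjective diaP := fun y => by
  obtain ⟨A, rfl⟩ := QuotientGroup.mk'_surjective _ y
  obtain ⟨B, rfl⟩ := diaHom_bijective.2 A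
  exact ⟨_, diaP_mk B⟩

/-- The product of the matrices of a word. -/
def matProd (w : List (Fin 9)) : Cfsg.SU 6 K 2 := (w.map genEl).prod

theorem appM_spec : ∀ (w : List (Fin 9)) (v : ℕ),
    vecOf (CoverData.appM w v) = ((matProd w).1 : Matrix (Fin 6) (Fin 6) K) *ᵥ vecOf v
  | [], v => by
    show vecOf v = _
    simp [matProd]
  | k :: w, v => by
    have h : CoverData.appM (k :: w) v = codeOf (genMat k *ᵥ vecOf (CoverData.appM w v)) :=
      force_eq (CoverData.appM w v) fun r' => codeOf (genMat k *ᵥ vecOf r')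
    rw [h, (codeOf_vecOf _).2, appM_spec w v, Matrix.mulVec_mulVec]
    show _ = ((genEl k * matProd w).1 : Matrix (Fin 6) (Fin 6) K) *ᵥ _
    rfl

theorem vecOf_dCode (v : ℕ) : vecOf (CoverData.dCode v) = Matrix.diagonal CoverData.dia *ᵥ vecOf v := by
  rw [CoverData.dCode, (codeOf_vecOf _).2]
  funext i
  rw [Matrix.mulVec_diagonal]

theorem matProd_reverse : ∀ w : List (Fin 9), matProd w.reverse = (matProd w)⁻¹
  | [] => by simp [matProd]
  | k :: w => by
    have hk : (genEl k)⁻¹ = genEl k :=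
      inv_eq_of_mul_eq_one_right (Subtype.ext (Subtype.ext (CoverData.gen_invol k)))
    have h1 := matProd_reverse w
    simp only [matProd] at h1 ⊢
    rw [List.reverse_cons, List.map_append, List.prod_append, h1, List.map_cons, List.map_nil,
      List.prod_singleton, List.map_cons, List.prod_cons, mul_inv_rev, hk]

theorem matProd_append (u v : List (Fin 9)) : matProd (u ++ v) = matProd u * matProd v := by
  simp [matProd]

theorem matProd_flatten_replicate (c : List (Fin 9)) : ∀ n, matProd (List.replicate n c).flatten = matProd c ^ n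
  | 0 => by simp [matProd]
  | n + 1 => by
    rw [List.replicate_succ, List.flatten_cons, matProd_append, matProd_flatten_replicate c n, pow_succ']

theorem hEl_prod_append (u v : List (Fin 9)) : ((u ++ v).map hEl).prod = (u.map hEl).prod * (v.map hEl).prod := by
  simp

theorem conj_spec (u v : List (Fin 9))
    (h : allFrom (fun i => Nat.beq (CoverData.appM v (CoverData.dCode (CoverData.unitCode i)))
      (CoverData.dCode (CoverData.appM u (CoverData.unitCode i)))) 0 6 = true) :
    matProd v = diaHom (matProd u) := by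
  refine Subtype.ext (Subtype.ext (Matrix.ext_of_mulVec_single fun i => ?_))
  have h1 := (allFrom_iff _ _ _).1 h (i : ℕ) (Nat.zero_le _) (by rw [Nat.zero_add]; exact i.2)
  have h2 := congrArg vecOf (Nat.eq_of_beq_eq_true h1)
  rw [appM_spec, vecOf_dCode, vecOf_dCode, appM_spec, CoverData.code_unit] at h2
  have h3 : (Matrix.diagonal fun i => F4.frob (CoverData.dia i)) *ᵥ (Pi.single i 1 : Fin 6 → K) =
      F4.frob (CoverData.dia i) • Pi.single i 1 := by
    funext j
    rw [Matrix.mulVec_diagonal]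
    by_cases hj : j = i
    · subst hj; simp
    · simp [hj]
  have h4 : Matrix.diagonal CoverData.dia *ᵥ (Pi.single i 1 : Fin 6 → K) = CoverData.dia i • Pi.single i 1 := by
    funext j
    rw [Matrix.mulVec_diagonal]
    by_cases hj : j = i
    · subst hj; simp
    · simp [hj]
  rw [diaHom_coe, diaConj, ← Matrix.mulVec_mulVec, ← Matrix.mulVec_mulVec, h3, Matrix.mulVec_smul,
    Matrix.mulVec_smul]
  rw [h4, Matrix.mulVec_smul] at h2
  rw [← h2, smul_smul, mul_comm, dia_norm, one_smul]

section

variable {β : H →* Cfsg.PSU 6 K 2}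
  (hgen : ∀ k, β (hEl k) = QuotientGroup.mk' (Subgroup.center (Cfsg.SU 6 K 2)) (genEl k))
include hgen

theorem β_prod : ∀ w : List (Fin 9),
    β (w.map hEl).prod = QuotientGroup.mk' (Subgroup.center (Cfsg.SU 6 K 2)) (matProd w)
  | [] => by simp [matProd]
  | k :: w => by
    rw [List.map_cons, List.prod_cons, map_mul, hgen, β_prod w, ← map_mul]
    rfl

end

theorem hEl_inv_apply' (k : Fin 9) (φ : PresentedGroup rels →* Equiv.Perm (Fin data.n))
    (hfwd : ∀ (l : List (Cfsg.Spor.Fi22.Gen × Bool)) (c : Fin data.n),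
      (((φ (PresentedGroup.mk rels (FreeGroup.mk l)))⁻¹ c : Fin data.n) : Nat) =
        data.fwd (l.map (Data.code data.iv enc)) c) (c : Fin data.n) :
    (((φ ((hEl k : H)⁻¹ : H))⁻¹ c : Fin data.n) : Nat) = data.fwd (genWord k).reverse c := by
  have e : ((hEl k : H)⁻¹ : H).1 =
      PresentedGroup.mk rels (FreeGroup.mk (FreeGroup.invRev (subGens.getD k 1).toWord)) := by
    rw [← FreeGroup.inv_mk, map_inv, FreeGroup.mk_toWord]
    rfl
  rw [e, hfwd, genWord_eq k]
  congr 1
  simp [FreeGroup.invRev, List.map_reverse, Function.comp_def, Data.code, Fi22U62.data]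

theorem prod_reverse_apply (φ : PresentedGroup rels →* Equiv.Perm (Fin data.n))
    (hfwd : ∀ (l : List (Cfsg.Spor.Fi22.Gen × Bool)) (c : Fin data.n),
      (((φ (PresentedGroup.mk rels (FreeGroup.mk l)))⁻¹ c : Fin data.n) : Nat) =
        data.fwd (l.map (Data.code data.iv enc)) c) : ∀ (w : List (Fin 9 × Bool)) (c : Fin data.n),
    (((φ ((w.map fun x => cond x.2 (hEl x.1) (hEl x.1)⁻¹).prod : H))⁻¹ c : Fin data.n) : Nat) =
      data.fwd (w.flatMap fun x => cond x.2 (genWord (x.1 : ℕ)) (genWord (x.1 : ℕ)).reverse) c := by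
  intro w
  induction w with
  | nil => intro c; simp [Data.fwd]
  | cons x w ih =>
    intro c
    rw [List.map_cons, List.prod_cons, List.flatMap_cons, Data.fwd_append, Subgroup.coe_mul, map_mul,
      mul_inv_rev, Equiv.Perm.mul_apply, ih]
    congr 1
    obtain ⟨k, b⟩ := x
    cases b
    · exact hEl_inv_apply' k φ hfwd c
    · exact hEl_inv_apply φ hfwd k c

/-- The commutator of two products. -/
noncomputable def comEl (u v : List (Fin 9)) : H := ⁅(u.map hEl).prod, (v.map hEl).prod⁆

theorem comEl_pow_apply (φ : PresentedGroup rels →* Equiv.Perm (Fin data.n))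
    (hfwd : ∀ (l : List (Cfsg.Spor.Fi22.Gen × Bool)) (c : Fin data.n),
      (((φ (PresentedGroup.mk rels (FreeGroup.mk l)))⁻¹ c : Fin data.n) : Nat) =
        data.fwd (l.map (Data.code data.iv enc)) c) (u v : List (Fin 9))
    (c : Fin data.n) :
    (((φ ((comEl u v) ^ 9 : H))⁻¹ c : Fin data.n) : Nat) =
      data.fwd ((CoverData.sPow u v).flatMap CoverData.letters) c := by
  have inv : ∀ w : List (Fin 9), ((w.reverse.map fun k => (k, false)).map
      fun x : Fin 9 × Bool => cond x.2 (hEl x.1) (hEl x.1)⁻¹).prod = ((w.map hEl).prod)⁻¹ := by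
    intro w
    rw [List.map_map, List.prod_inv_reverse, List.map_map, List.map_reverse]
    rfl
  have e : comEl u v ^ 9 = ((CoverData.sPow u v).map fun x => cond x.2 (hEl x.1) (hEl x.1)⁻¹).prod := by
    rw [CoverData.sPow, List.map_flatten, List.map_replicate, List.prod_flatten, List.map_replicate, List.prod_replicate]
    congr 1
    rw [comEl, commutatorElement_def, CoverData.sWord, List.map_append, List.map_append, List.map_append, List.prod_append,
      List.prod_append, List.prod_append, inv, inv, List.map_map, List.map_map]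
    rfl
  rw [e, prod_reverse_apply φ hfwd]
  rfl

end Cfsg.Agent.PSUMult.SixTwo
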